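import Mathlib
import Cfsg.Agent.Lib.JankoOne.Model
import Cfsg.Agent.Lib.JankoOne.Model2
import Cfsg.Agent.Lib.JankoExt.Model

/-!
# Finite facts on `2 × A₅` for the weak closure characterisation
-/

set_option autoImplicit false

open Equiv CfsgLib.JankoOne

namespace CfsgLib.JankoWeak

/-- Three involutions of the four-group in the alternating factor. -/
def uM : Cmod := zM * vM * zM⁻¹

theorem cv_cases : ∀ k : Cmod, k * vM = vM * k → k.1 = 1 →
    k = 1 ∨ k = vM ∨ k = uM ∨ k = vM * uM := by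
  decide +kernel

set_option synthInstance.maxSize 1024 in
set_option synthInstance.maxHeartbeats 200000 in
theorem cv_decomp : ∀ k : Cmod, k * vM = vM * k →
    ∃ a, (a = 1 ∨ a = tM) ∧ ∃ b, b * vM = vM * b ∧ b.1 = 1 ∧ k = a * b := by
  decide +kernel

theorem facts : uM.1 = 1 ∧ vM.1 = 1 ∧ tM.1 ≠ 1 ∧ uM * vM = vM * uM ∧ uM ≠ vM ∧ uM ≠ 1 ∧
    zM * uM * zM⁻¹ = vM * uM ∧ zM * (vM * uM) * zM⁻¹ = vM ∧ xM.1 = 1 ∧ zM.1 = 1 ∧
    (zM * vM * xM) ^ 2 = 1 := by
  decide +kernel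

set_option synthInstance.maxSize 1024 in
set_option synthInstance.maxHeartbeats 200000 in
theorem fst_one_squares : ∀ k : Cmod, k.1 = 1 → ∃ a b : Cmod, a * a * (b * b) = k := by
  decide +kernel

set_option synthInstance.maxSize 1024 in
set_option synthInstance.maxHeartbeats 200000 in
theorem invol_cases : ∀ k : Cmod, k * k = 1 → k ≠ 1 → k ≠ tM →
    (∃ c, c * k * c⁻¹ = vM) ∨ (∃ c, c * k * c⁻¹ = tM * vM) := by
  decide +kernel

theorem z_rigid : ∀ k : Cmod, k ^ 3 = 1 → k * vM * k⁻¹ = uM → k * uM * k⁻¹ = vM * uM →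
    ∃ e : Cmod, e * vM = vM * e ∧ e * zM * e⁻¹ = k := by
  decide +kernel

set_option synthInstance.maxSize 1024 in
set_option synthInstance.maxHeartbeats 200000 in
theorem x_rigid : ∀ k : Cmod, k ^ 3 = 1 → k ≠ 1 → vM * k * vM = k⁻¹ → (zM * vM * k) ^ 2 = 1 →
    k = xM := by
  decide +kernel

theorem z_fixed : ∀ k : Cmod, k * vM = vM * k → zM * k * zM⁻¹ = k → k = 1 ∨ k = tM := by
  decide +kernel

theorem sq_fst : ∀ k : Cmod, k * k = 1 → ∀ c : Cmod, (c * k * c⁻¹).1 = k.1 := by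
  decide +kernel

theorem zx_order : (zM * xM) ^ 5 = 1 ∧ zM * xM ≠ 1 ∧ (tM * vM) * vM = vM * (tM * vM) := by
  decide +kernel

set_option synthInstance.maxSize 1024 in
set_option synthInstance.maxHeartbeats 200000 in
theorem normalizing_two : ∀ k : Cmod, k * vM * k⁻¹ * vM = vM * (k * vM * k⁻¹) →
    k * uM * k⁻¹ * vM = vM * (k * uM * k⁻¹) → k ^ 8 = 1 → k * vM = vM * k := by
  decide +kernel

theorem tv_ne : tM * vM ≠ 1 ∧ tM * vM ≠ tM := by decide +kernel

set_option synthInstance.maxSize 1024 in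
set_option synthInstance.maxHeartbeats 200000 in
theorem normalizer_cv : ∀ k : Cmod, k * vM * k⁻¹ * vM = vM * (k * vM * k⁻¹) →
    k * uM * k⁻¹ * vM = vM * (k * uM * k⁻¹) →
    ∃ e : Cmod, e * vM = vM * e ∧ (k = e ∨ k = e * zM ∨ k = e * zM * zM) := by
  decide +kernel

end CfsgLib.JankoWeak
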