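import Mathlib
import Cfsg.Agent.Lib.JankoWeak.Model
import Cfsg.Agent.Lib.Cores.Basic

/-!
# The involution centraliser under a weak closure `2 × A₅`
-/

set_option autoImplicit false
set_option linter.style.haveILetI false

open Subgroup CfsgLib.JankoOne

namespace CfsgLib.JankoWeak

/-- A two-central involution whose commuting conjugates lie in, and generate, an embedded
`2 × A₅`. -/
structure Weak (G : Type*) [Group G] where
  /-- the involution -/
  t : G
  /-- the embedding -/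
  ι : Cmod →* G
  inj : Function.Injective ι
  ι_t : ι tM = t
  /-- a Sylow subgroup -/
  P : Sylow 2 G
  hP : ∀ x ∈ (P : Subgroup G), x * t = t * x
  le_P : (Subgroup.centralizer ({vM} : Set Cmod)).map ι ≤ (P : Subgroup G)
  conj_mem : ∀ g : G, Commute (g * t * g⁻¹) t → ∃ k, ι k = g * t * g⁻¹
  gen : ι.range = closure {x : G | ∃ g : G, x = g * t * g⁻¹ ∧ x * t = t * x}

/-- An element of `2 × A₅` generating with the four-group and `zM` everything. -/
theorem eq_top_of_mem {H : Subgroup Cmod} (hcv : ∀ k : Cmod, k * vM = vM * k → k ∈ H)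
    (hz : zM ∈ H) (hx : xM ∈ H) : H = ⊤ := by
  apply Subgroup.eq_top_of_card_eq
  have h8 : 8 ∣ Nat.card H := by
    have h : Nat.card (Subgroup.centralizer ({vM} : Set Cmod)) = 8 := by
      rw [← card_centralizer_vM, ← Nat.card_eq_fintype_card]
      exact Nat.card_congr (Equiv.subtypeEquivRight fun k => mem_centralizer_singleton_iff)
    exact h ▸ card_dvd_of_le fun k hk => hcv k (mem_centralizer_singleton_iff.mp hk)
  have h3 : 3 ∣ Nat.card H := by
    haveI : Fact (Nat.Prime 3) := ⟨Nat.prime_three⟩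
    have h := H.orderOf_dvd_natCard hz
    rwa [orderOf_eq_prime tM_facts.2.2.2.2.2.2 (by decide +kernel)] at h
  have h5 : 5 ∣ Nat.card H := by
    haveI : Fact (Nat.Prime 5) := ⟨Nat.prime_five⟩
    have h := H.orderOf_dvd_natCard (mul_mem hz hx)
    rwa [orderOf_eq_prime zx_order.1 zx_order.2.1] at h
  have h120 : 120 ∣ Nat.card H :=
    Nat.Coprime.mul_dvd_of_dvd_of_dvd (by norm_num : Nat.Coprime 24 5)
      (Nat.Coprime.mul_dvd_of_dvd_of_dvd (by norm_num : Nat.Coprime 8 3) h8 h3) h5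
  exact Nat.dvd_antisymm (card_subgroup_dvd_card H) (card_Cmod.symm ▸ h120)

namespace Weak

variable {G : Type*} [Group G] [Finite G] (D : Weak G)

/-- The elementary abelian group of order eight. -/
def E : Subgroup G := (Subgroup.centralizer ({vM} : Set Cmod)).map D.ι

omit [Finite G] in
theorem mem_E (k : Cmod) : D.ι k ∈ D.E ↔ k * vM = vM * k := by
  constructor
  · rintro ⟨l, hl, hle⟩
    exact D.inj hle ▸ mem_centralizer_singleton_iff.mp hl
  · exact fun h => ⟨k, mem_centralizer_singleton_iff.mpr h, rfl⟩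

omit [Finite G] in
theorem exists_of_mem_E {x : G} (hx : x ∈ D.E) : ∃ k, k * vM = vM * k ∧ D.ι k = x := by
  obtain ⟨k, hk, rfl⟩ := hx
  exact ⟨k, mem_centralizer_singleton_iff.mp hk, rfl⟩

omit [Finite G] in
theorem comm_t (k : Cmod) : Commute (D.ι k) D.t := by
  rw [← D.ι_t]
  exact (show Commute k tM from commute_tM k).map D.ι

omit [Finite G] in
theorem t_ne : D.t ≠ 1 := fun h => tM_facts.1 (D.inj (by rw [D.ι_t, h, map_one]))

omit [Finite G] in
theorem t_sq : D.t * D.t = 1 := by rw [← D.ι_t, ← map_mul, tM_facts.2.1, map_one]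

omit [Finite G] in
theorem orderOf_t : orderOf D.t = 2 := orderOf_eq_prime (by rw [sq, D.t_sq]) D.t_ne

omit [Finite G] in
theorem t_mem_E : D.t ∈ D.E := by
  rw [← D.ι_t, D.mem_E]
  exact (commute_tM vM).symm

omit [Finite G] in
theorem E_comm {a b : G} (ha : a ∈ D.E) (hb : b ∈ D.E) : a * b = b * a := by
  obtain ⟨k, hk, rfl⟩ := D.exists_of_mem_E ha
  obtain ⟨l, hl, rfl⟩ := D.exists_of_mem_E hb
  rw [← map_mul, ← map_mul, commute_of_commute_vM k hk l hl]

omit [Finite G] in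
theorem E_sq {a : G} (ha : a ∈ D.E) : a * a = 1 := by
  obtain ⟨k, hk, rfl⟩ := D.exists_of_mem_E ha
  rw [← map_mul, sq_of_commute_vM k hk, map_one]

theorem card_E : Nat.card D.E = 8 := by
  rw [E, card_map_of_injective D.inj, ← card_centralizer_vM, ← Nat.card_eq_fintype_card]
  exact Nat.card_congr (Equiv.subtypeEquivRight fun k => mem_centralizer_singleton_iff)

omit [Finite G] in
/-- The centraliser of `t` normalises the weak closure. -/
theorem conj_range {c : G} (hc : Commute c D.t) (k : Cmod) :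
    ∃ l, D.ι l = c * D.ι k * c⁻¹ := by
  have hle : D.ι.range ≤ D.ι.range.comap (MulAut.conj c).toMonoidHom := by
    conv_lhs => rw [D.gen]
    refine (closure_le _).mpr ?_
    rintro x ⟨g, rfl, hx⟩
    show c * (g * D.t * g⁻¹) * c⁻¹ ∈ D.ι.range
    rw [show c * (g * D.t * g⁻¹) * c⁻¹ = c * g * D.t * (c * g)⁻¹ by group]
    obtain ⟨l, hl⟩ := D.conj_mem (c * g) (by
      show _ = _
      calc c * g * D.t * (c * g)⁻¹ * D.t = c * (g * D.t * g⁻¹) * (c⁻¹ * D.t) := by group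
        _ = c * ((g * D.t * g⁻¹) * D.t) * c⁻¹ := by rw [hc.inv_left.eq]; group
        _ = c * D.t * (g * D.t * g⁻¹) * c⁻¹ := by rw [hx]; group
        _ = D.t * (c * g * D.t * (c * g)⁻¹) := by rw [hc.eq]; group)
    exact ⟨l, hl⟩
  exact hle ⟨k, rfl⟩

omit [Finite G] in
/-- Conjugation keeps the alternating factor. -/
theorem fst_eq {c : G} (hc : Commute c D.t) {k l : Cmod} (hk : k.1 = 1)
    (h : D.ι l = c * D.ι k * c⁻¹) : l.1 = 1 := by
  obtain ⟨a, b, rfl⟩ := fst_one_squares k hk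
  obtain ⟨a', ha⟩ := D.conj_range hc a
  obtain ⟨b', hb⟩ := D.conj_range hc b
  have e : l = a' * a' * (b' * b') := D.inj (by
    rw [h]; simp only [map_mul, ha, hb]; group)
  rw [e]
  have hz : ∀ x : Multiplicative (ZMod 2), x * x = 1 := by decide
  simp [hz]

theorem P_inf_range : ∀ x ∈ (D.P : Subgroup G), x ∈ D.ι.range → x ∈ D.E := by
  haveI : Fact (Nat.Prime 2) := ⟨Nat.prime_two⟩
  set Q := (D.P : Subgroup G) ⊓ D.ι.range with hQ
  have hle : D.E ≤ Q := le_inf D.le_P (map_le_range _ _)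
  obtain ⟨n, hn⟩ := (D.P.isPGroup'.to_le (inf_le_left : Q ≤ (D.P : Subgroup G))).exists_card_eq
  have hdvd : Nat.card Q ∣ 120 := by
    have h : Nat.card D.ι.range = 120 := by
      rw [← Nat.card_congr (MonoidHom.ofInjective D.inj).toEquiv, card_Cmod]
    exact h ▸ card_dvd_of_le inf_le_right
  have hn3 : n ≤ 3 := by
    by_contra h
    rw [hn] at hdvd
    have : 2 ^ 4 ∣ 120 := (Nat.pow_dvd_pow 2 (by omega : 4 ≤ n)).trans hdvd
    norm_num at this
  have he : D.E = Q := eq_of_le_of_card_ge hle (by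
    rw [hn, D.card_E, show 8 = 2 ^ 3 by norm_num]
    exact Nat.pow_le_pow_right (by norm_num) hn3)
  exact fun x hx hxr => he ▸ ⟨hx, hxr⟩

theorem mem_E_of_conj {g : G} (h : g * D.t * g⁻¹ ∈ (D.P : Subgroup G)) : g * D.t * g⁻¹ ∈ D.E := by
  obtain ⟨k, hk⟩ := D.conj_mem g (D.hP _ h)
  exact D.P_inf_range _ h ⟨k, hk⟩

theorem P_normalizes : (D.P : Subgroup G) ≤ normalizer (D.E : Set G) := by
  intro s hs
  have hfwd : ∀ a ∈ (D.P : Subgroup G), ∀ x ∈ D.E, a * x * a⁻¹ ∈ D.E := by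
    intro a ha x hx
    obtain ⟨k, -, rfl⟩ := D.exists_of_mem_E hx
    obtain ⟨l, hl⟩ := D.conj_range (D.hP a ha) k
    exact D.P_inf_range _ (mul_mem (mul_mem ha (D.le_P hx)) (inv_mem ha)) ⟨l, hl⟩
  rw [mem_normalizer_iff]
  intro x
  refine ⟨hfwd s hs x, fun h => ?_⟩
  have := hfwd s⁻¹ (inv_mem hs) _ h
  simpa [mul_assoc] using this

omit [Finite G] in
theorem z_mem : D.ι zM ∈ normalizer (D.E : Set G) := by
  have hfwd : ∀ x ∈ D.E, D.ι zM * x * (D.ι zM)⁻¹ ∈ D.E := by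
    intro x hx
    obtain ⟨k, hk, rfl⟩ := D.exists_of_mem_E hx
    rw [← map_inv, ← map_mul, ← map_mul, D.mem_E]
    exact zM_conj_commute_vM k hk
  have h3 : D.ι zM ^ 3 = 1 := by rw [← map_pow, tM_facts.2.2.2.2.2.2, map_one]
  rw [mem_normalizer_iff]
  intro x
  refine ⟨hfwd x, fun h => ?_⟩
  have key := hfwd _ (hfwd _ h)
  have e1 : D.ι zM * (D.ι zM * (D.ι zM * x * (D.ι zM)⁻¹) * (D.ι zM)⁻¹) * (D.ι zM)⁻¹ =
      D.ι zM ^ 3 * x * (D.ι zM ^ 3)⁻¹ := by simp [pow_succ, mul_assoc]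
  rw [e1, h3] at key
  simpa using key

/-- Some involution of the alternating part, possibly times `t`, is conjugate to `t`. -/
theorem exists_conj : IsConj D.t (D.ι vM) ∨ IsConj D.t (D.ι (tM * vM)) := by
  by_contra hne
  push Not at hne
  have hle : D.ι.range ≤ zpowers D.t := by
    rw [D.gen]
    refine (closure_le _).mpr ?_
    rintro x ⟨g, rfl, hx⟩
    obtain ⟨k, hk⟩ := D.conj_mem g hx
    by_cases hkt : k = tM
    · rw [← hk, hkt, D.ι_t]; exact mem_zpowers D.t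
    exfalso
    have hk2 : k * k = 1 := D.inj (by
      rw [map_mul, map_one, hk, conj_mul, D.t_sq, mul_one, mul_inv_cancel])
    have hk1 : k ≠ 1 := fun h => D.t_ne (by
      rw [h, map_one] at hk; exact conj_eq_one_iff.mp hk.symm)
    have hc : IsConj D.t (D.ι k) := isConj_iff.mpr ⟨g, hk.symm⟩
    rcases invol_cases k hk2 hk1 hkt with ⟨c, hc'⟩ | ⟨c, hc'⟩
    · exact hne.1 (hc.trans (isConj_iff.mpr ⟨D.ι c, by rw [← map_inv, ← map_mul, ← map_mul, hc']⟩))
    · exact hne.2 (hc.trans (isConj_iff.mpr ⟨D.ι c, by rw [← map_inv, ← map_mul, ← map_mul, hc']⟩))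
  have h := card_dvd_of_le hle
  rw [← Nat.card_congr (MonoidHom.ofInjective D.inj).toEquiv, card_Cmod, Nat.card_zpowers,
    D.orderOf_t] at h
  norm_num at h

/-- Conjugates of `t` generate the elementary group. -/
theorem E_le {H : Subgroup G} (hH : ∀ y ∈ D.E, IsConj D.t y → y ∈ H) : D.E ≤ H := by
  have hconj : ∀ k : Cmod, IsConj (D.ι k) (D.ι (zM * k * zM⁻¹)) := fun k =>
    isConj_iff.mpr ⟨D.ι zM, by rw [map_mul, map_mul, map_inv]⟩
  have hmem : ∀ k : Cmod, k * vM = vM * k → IsConj D.t (D.ι k) → D.ι k ∈ H := fun k hk hc =>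
    hH _ ((D.mem_E k).mpr hk) hc
  have ht : D.ι tM ∈ H := by
    rw [D.ι_t]; exact hH _ D.t_mem_E (IsConj.refl _)
  have hv : D.ι vM ∈ H ∧ D.ι uM ∈ H := by
    rcases D.exists_conj with h | h
    · exact ⟨hmem vM rfl h, hmem uM facts.2.2.2.1 (h.trans (hconj vM))⟩
    · have h1 := hmem _ zx_order.2.2 h
      have e : zM * (tM * vM) * zM⁻¹ = tM * uM ∧ (tM * uM) * vM = vM * (tM * uM) := by
        decide +kernel
      have h2 := hmem (tM * uM) e.2 (e.1 ▸ h.trans (hconj _))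
      have hcancel : ∀ k : Cmod, D.ι k = D.ι tM * D.ι (tM * k) := fun k => by
        rw [← map_mul, ← mul_assoc, tM_facts.2.1, one_mul]
      exact ⟨by rw [hcancel vM]; exact mul_mem ht h1, by rw [hcancel uM]; exact mul_mem ht h2⟩
  intro x hx
  obtain ⟨k, hk, rfl⟩ := D.exists_of_mem_E hx
  obtain ⟨a, ha, b, hbc, hb1, rfl⟩ := cv_decomp k hk
  rw [map_mul]
  refine mul_mem ?_ ?_
  · rcases ha with rfl | rfl
    · rw [map_one]; exact one_mem _
    · exact ht
  · rcases cv_cases b hbc hb1 with rfl | rfl | rfl | rfl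
    · rw [map_one]; exact one_mem _
    · exact hv.1
    · exact hv.2
    · rw [map_mul]; exact mul_mem hv.1 hv.2

/-- Two-subgroups of the centraliser go into the Sylow subgroup. -/
theorem exists_conj_le {Q : Subgroup G} (hQ : IsPGroup 2 Q) (hQt : ∀ x ∈ Q, Commute x D.t) :
    ∃ c, Commute c D.t ∧ ∀ x ∈ Q, c * x * c⁻¹ ∈ (D.P : Subgroup G) := by
  haveI : Fact (Nat.Prime 2) := ⟨Nat.prime_two⟩
  set C := Subgroup.centralizer ({D.t} : Set G)
  have hQC : Q ≤ C := fun x hx => mem_centralizer_singleton_iff.mpr (hQt x hx).eq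
  have hPC : (D.P : Subgroup G) ≤ C := fun x hx => mem_centralizer_singleton_iff.mpr (D.hP x hx)
  obtain ⟨R, hR⟩ := (hQ.of_equiv (subgroupOfEquivOfLe hQC).symm).exists_le_sylow
  obtain ⟨c, hc⟩ := MulAction.exists_smul_eq C R (D.P.subtype hPC)
  refine ⟨c, mem_centralizer_singleton_iff.mp c.2, fun x hx => ?_⟩
  have h : c * ⟨x, hQC hx⟩ * c⁻¹ ∈ (D.P.subtype hPC : Subgroup C) := by
    rw [← hc, Sylow.coe_subgroup_smul]
    exact ⟨⟨x, hQC hx⟩, hR hx, by simp⟩
  rw [Sylow.coe_subtype, mem_subgroupOf] at h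
  simpa using h

/-- A conjugate of `t` in `E` is conjugate to it in the normaliser of `E`. -/
theorem exists_normalizer {x : G} (hx : x ∈ D.E) (hc : IsConj D.t x) :
    ∃ n ∈ normalizer (D.E : Set G), n * D.t * n⁻¹ = x := by
  haveI : Fact (Nat.Prime 2) := ⟨Nat.prime_two⟩
  obtain ⟨h, rfl⟩ := isConj_iff.mp hc
  set Q := D.E.map (MulAut.conj h⁻¹).toMonoidHom
  have hQt : ∀ y ∈ Q, Commute y D.t := by
    rintro _ ⟨y, hy, rfl⟩
    show h⁻¹ * y * h⁻¹⁻¹ * D.t = D.t * (h⁻¹ * y * h⁻¹⁻¹)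
    have := D.E_comm hy hx
    calc h⁻¹ * y * h⁻¹⁻¹ * D.t = h⁻¹ * (y * (h * D.t * h⁻¹)) * h := by group
      _ = _ := by rw [this]; group
  obtain ⟨c, hct, hc'⟩ := D.exists_conj_le
    ((D.P.isPGroup'.to_le D.le_P).map (MulAut.conj h⁻¹).toMonoidHom) hQt
  set n := h * c⁻¹
  have hsub : D.E ≤ D.E.comap (MulAut.conj n⁻¹).toMonoidHom := by
    refine D.E_le fun y hy hyc => ?_
    show n⁻¹ * y * n⁻¹⁻¹ ∈ D.E
    have hP' : c * (h⁻¹ * y * h⁻¹⁻¹) * c⁻¹ ∈ (D.P : Subgroup G) := hc' _ ⟨y, hy, rfl⟩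
    obtain ⟨g, rfl⟩ := isConj_iff.mp hyc
    rw [show n⁻¹ * (g * D.t * g⁻¹) * n⁻¹⁻¹ = c * h⁻¹ * g * D.t * (c * h⁻¹ * g)⁻¹ by
      simp only [n]; group]
    refine D.mem_E_of_conj ?_
    rwa [show c * h⁻¹ * g * D.t * (c * h⁻¹ * g)⁻¹ =
      c * (h⁻¹ * (g * D.t * g⁻¹) * h⁻¹⁻¹) * c⁻¹ by group]
  have heq : D.E.map (MulAut.conj n⁻¹).toMonoidHom = D.E :=
    eq_of_le_of_card_ge (map_le_iff_le_comap.mpr hsub)
      (by rw [card_map_of_injective (MulAut.conj n⁻¹).injective])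
  refine ⟨n, ?_, ?_⟩
  · rw [mem_normalizer_iff]
    intro y
    constructor
    · intro hy
      rw [← heq] at hy
      obtain ⟨w, hw, hwy⟩ := hy
      rw [← hwy]
      simpa [mul_assoc] using hw
    · intro hy
      rw [← heq]
      exact ⟨_, hy, by simp [mul_assoc]⟩
  · calc h * c⁻¹ * D.t * (h * c⁻¹)⁻¹ = h * (c⁻¹ * D.t) * c * h⁻¹ := by group
      _ = h * D.t * h⁻¹ := by rw [hct.inv_left.eq]; group

/-- All involutions of `E` are conjugate to `t` in its normaliser. -/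
theorem transitive {k : Cmod} (hk : k * vM = vM * k) (hk1 : k ≠ 1) :
    ∃ n ∈ normalizer (D.E : Set G), n * D.t * n⁻¹ = D.ι k := by
  classical
  haveI : Fact (Nat.Prime 2) := ⟨Nat.prime_two⟩
  set N := normalizer (D.E : Set G) with hN
  set s : Set Cmod := {k | (k * vM = vM * k ∧ k ≠ 1) ∧ ∃ n ∈ N, n * D.t * n⁻¹ = D.ι k} with hs
  have horb : ∀ n ∈ N, ∃ k ∈ s, n * D.t * n⁻¹ = D.ι k := by
    intro n hn
    obtain ⟨l, hl, hle⟩ := D.exists_of_mem_E ((mem_normalizer_iff.mp hn D.t).mp D.t_mem_E)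
    refine ⟨l, ⟨⟨hl, ?_⟩, n, hn, hle.symm⟩, hle.symm⟩
    rintro rfl
    apply D.t_ne
    rw [map_one] at hle
    exact conj_eq_one_iff.mp hle.symm
  have hts : tM ∈ s := ⟨⟨(commute_tM vM).symm, tM_facts.1⟩, 1, one_mem _, by simp [D.ι_t]⟩
  have hsz : ∀ k ∈ s, zM * k * zM⁻¹ ∈ s := by
    rintro k ⟨⟨hkc, hk1⟩, n, hn, hne⟩
    refine ⟨⟨zM_conj_commute_vM k hkc, fun h => hk1 (conj_eq_one_iff.mp h)⟩, D.ι zM * n,
      mul_mem D.z_mem hn, ?_⟩
    rw [map_mul, map_mul, map_inv, ← hne]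
    group
  have hodd : Odd s.ncard := by
    letI : MulAction N G :=
      MulAction.compHom G ((ConjAct.toConjAct : G ≃* ConjAct G).toMonoidHom.comp N.subtype)
    have hsmul : ∀ (n : N) (x : G), n • x = (n : G) * x * (n : G)⁻¹ := fun n x => rfl
    have hor : MulAction.orbit N D.t = D.ι '' s := by
      ext x
      constructor
      · rintro ⟨n, rfl⟩
        obtain ⟨k, hk, hke⟩ := horb n n.2
        exact ⟨k, hk, by rw [← hke]; exact (hsmul n D.t).symm⟩
      · rintro ⟨k, ⟨-, n, hn, hne⟩, rfl⟩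
        exact ⟨⟨n, hn⟩, by rw [← hne]; exact hsmul _ D.t⟩
    have hidx := MulAction.index_stabilizer N D.t
    rw [hor, Set.ncard_image_of_injective _ D.inj] at hidx
    have hle : (D.P : Subgroup G).subgroupOf N ≤ MulAction.stabilizer N D.t := by
      intro n hn
      rw [MulAction.mem_stabilizer_iff, hsmul, D.hP n hn, mul_inv_cancel_right]
    have hdvd : s.ncard ∣ (D.P : Subgroup G).index :=
      hidx ▸ (index_dvd_of_le hle).trans (relIndex_dvd_index_of_le D.P_normalizes)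
    rw [← Nat.not_even_iff_odd, even_iff_two_dvd]
    exact fun h => D.P.not_dvd_index (h.trans hdvd)
  have hne : s ≠ {tM} := by
    intro hs1
    have key : ∀ l : Cmod, l * vM = vM * l → l ≠ 1 → l ≠ tM → ¬IsConj D.t (D.ι l) := by
      intro l hl hl1 hlt hc
      obtain ⟨n, hn, hne⟩ := D.exists_normalizer ((D.mem_E l).mpr hl) hc
      have : l ∈ s := ⟨⟨hl, hl1⟩, n, hn, hne⟩
      rw [hs1] at this
      exact hlt this
    rcases D.exists_conj with h | h
    · exact key vM rfl tM_facts.2.2.1 tM_facts.2.2.2.1 h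
    · exact key _ zx_order.2.2 tv_ne.1 tv_ne.2 h
  have hall := CfsgLib.JankoExt.model5.orbit s (fun k hk => hk.1) hts hsz hodd hne
  have hks : k ∈ s := by
    rw [hall]
    exact ⟨hk, hk1⟩
  exact hks.2

theorem isConj_of_mem_E {x : G} (hx : x ∈ D.E) (hx1 : x ≠ 1) : IsConj D.t x := by
  obtain ⟨k, hk, rfl⟩ := D.exists_of_mem_E hx
  obtain ⟨n, -, hn⟩ := D.transitive hk fun h => hx1 (by rw [h, map_one])
  exact isConj_iff.mpr ⟨n, hn⟩

omit [Finite G] in
/-- The commutators of the stabiliser on `E` lie in the alternating part. -/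
theorem commutator_fst {c : G} (hc : Commute c D.t) {k l : Cmod} (hk : k * vM = vM * k)
    (h : D.ι l = c * D.ι k * c⁻¹) : l.1 = k.1 := by
  obtain ⟨a, ha, b, -, hb, rfl⟩ := cv_decomp k hk
  obtain ⟨b', hb'⟩ := D.conj_range hc b
  have hba := D.fst_eq hc hb hb'
  have hfix : c * D.ι a * c⁻¹ = D.ι a := by
    rcases ha with rfl | rfl
    · simp
    · rw [D.ι_t, hc.eq, mul_inv_cancel_right]
  have e : l = a * b' := D.inj (by
    rw [h, map_mul, map_mul, hb', show c * (D.ι a * D.ι b) * c⁻¹ =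
      (c * D.ι a * c⁻¹) * (c * D.ι b * c⁻¹) by group, hfix])
  rw [e]
  simp [hba, hb]

/-- An element of the centraliser fixing the second involution centralises `E`. -/
theorem centralizes {c : G} (hc : Commute c D.t) (hv : Commute c (D.ι vM)) :
    ∀ y ∈ D.E, Commute c y := by
  have key : ∀ {d : G}, Commute d D.t → Commute d (D.ι vM) → ∀ k : Cmod, k * vM = vM * k →
      ∃ l, l * vM = vM * l ∧ D.ι l = d * D.ι k * d⁻¹ ∧ l.1 = k.1 := by
    intro d hd hdv k hk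
    obtain ⟨l, hl⟩ := D.conj_range hd k
    refine ⟨l, D.inj ?_, hl, D.commutator_fst hd hk hl⟩
    rw [map_mul, map_mul, hl]
    calc d * D.ι k * d⁻¹ * D.ι vM = d * D.ι k * (d⁻¹ * D.ι vM) := by group
      _ = d * (D.ι (k * vM)) * d⁻¹ := by rw [hdv.inv_left.eq, map_mul]; group
      _ = (d * D.ι vM) * D.ι k * d⁻¹ := by rw [hk, map_mul]; group
      _ = D.ι vM * (d * D.ι k * d⁻¹) := by rw [hdv.eq]; group
  -- the image of the third involution
  obtain ⟨l, hlc, hl, hl1⟩ := key hc hv uM facts.2.2.2.1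
  have hu : Commute c (D.ι uM) := by
    rcases cv_cases l hlc (hl1.trans facts.1) with rfl | rfl | rfl | rfl
    · rw [map_one] at hl
      exact absurd (D.inj ((conj_eq_one_iff.mp hl.symm).trans (map_one D.ι).symm)) facts.2.2.2.2.2.1
    · refine absurd (D.inj ?_) facts.2.2.2.2.1
      calc D.ι uM = c⁻¹ * (c * D.ι uM * c⁻¹) * c := by group
        _ = c⁻¹ * D.ι vM * c := by rw [← hl]
        _ = D.ι vM := by rw [mul_assoc, ← hv.eq, inv_mul_cancel_left]
    · exact mul_inv_eq_iff_eq_mul.mp hl.symm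
    · exfalso
      obtain ⟨n, hn, hne⟩ := D.transitive (k := vM) rfl tM_facts.2.2.1
      have hd : Commute (n⁻¹ * c * n) D.t := by
        show n⁻¹ * c * n * D.t = D.t * (n⁻¹ * c * n)
        calc n⁻¹ * c * n * D.t = n⁻¹ * (c * (n * D.t * n⁻¹)) * n := by group
          _ = _ := by rw [hne, hv.eq, ← hne]; group
      have hu' : n⁻¹ * D.ι uM * n ∈ D.E := by
        refine (mem_normalizer_iff.mp hn _).mpr ?_
        rw [show n * (n⁻¹ * D.ι uM * n) * n⁻¹ = D.ι uM by group, D.mem_E]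
        exact facts.2.2.2.1
      obtain ⟨k, hk, hke⟩ := D.exists_of_mem_E hu'
      obtain ⟨k', hk'⟩ := D.conj_range hd k
      have e : k' = tM * k := D.inj (by
        rw [hk', map_mul, hke, D.ι_t]
        calc n⁻¹ * c * n * (n⁻¹ * D.ι uM * n) * (n⁻¹ * c * n)⁻¹ =
            n⁻¹ * (c * D.ι uM * c⁻¹) * n := by group
          _ = n⁻¹ * ((n * D.t * n⁻¹) * D.ι uM) * n := by rw [hne, ← hl, map_mul]
          _ = D.t * (n⁻¹ * D.ι uM * n) := by group)
      have h1 := D.commutator_fst hd hk hk'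
      rw [e, Prod.fst_mul, mul_eq_right] at h1
      exact facts.2.2.1 h1
  intro y hy
  obtain ⟨k, hk, rfl⟩ := D.exists_of_mem_E hy
  obtain ⟨a, ha, b, hbc, hb1, rfl⟩ := cv_decomp k hk
  rw [map_mul]
  refine Commute.mul_right ?_ ?_
  · rcases ha with rfl | rfl
    · rw [map_one]; exact Commute.one_right c
    · rw [D.ι_t]; exact hc
  · rcases cv_cases b hbc hb1 with rfl | rfl | rfl | rfl
    · rw [map_one]; exact Commute.one_right c
    · exact hv
    · exact hu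
    · rw [map_mul]; exact hv.mul_right hu

/-- The centraliser of `t` is the weak closure times its centraliser. -/
theorem decompose {c : G} (hc : Commute c D.t) :
    ∃ k b, (∀ l, Commute b (D.ι l)) ∧ c = D.ι k * b := by
  obtain ⟨l, hl⟩ := D.conj_range hc vM
  have hl2 : l * l = 1 := D.inj (by
    rw [map_mul, map_one, hl, conj_mul, ← map_mul, tM_facts.2.2.2.2.1, map_one, mul_one,
      mul_inv_cancel])
  have hlfst := D.fst_eq hc facts.2.1 hl
  have hl1 : l ≠ 1 := fun h => tM_facts.2.2.1 (D.inj (by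
    rw [h, map_one] at hl; rw [map_one]; exact conj_eq_one_iff.mp hl.symm))
  have hlt : l ≠ tM := fun h => facts.2.2.1 (h ▸ hlfst)
  obtain ⟨w, hw⟩ : ∃ w, w * l * w⁻¹ = vM := by
    rcases invol_cases l hl2 hl1 hlt with h | ⟨w, hw⟩
    · exact h
    · exfalso
      have := sq_fst l hl2 w
      rw [hw, hlfst, Prod.fst_mul, facts.2.1, mul_one] at this
      exact facts.2.2.1 this
  set c1 := D.ι w * c with hc1
  have hc1t : Commute c1 D.t := (D.comm_t w).mul_left hc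
  have hc1v : Commute c1 (D.ι vM) := by
    refine mul_inv_eq_iff_eq_mul.mp ?_
    calc c1 * D.ι vM * c1⁻¹ = D.ι w * (c * D.ι vM * c⁻¹) * (D.ι w)⁻¹ := by rw [hc1]; group
      _ = D.ι vM := by rw [← hl, ← map_inv, ← map_mul, ← map_mul, hw]
  have hcE := D.centralizes hc1t hc1v
  obtain ⟨k, hk⟩ := D.conj_range hc1t zM
  have hEfix : ∀ a : Cmod, a * vM = vM * a → c1 * D.ι a * c1⁻¹ = D.ι a := fun a ha => by
    rw [(hcE _ ((D.mem_E a).mpr ha)).eq, mul_inv_cancel_right]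
  have hpow : ∀ (a : Cmod) (n : ℕ), D.ι a = c1 * D.ι zM * c1⁻¹ → (a ^ n = 1 ↔ zM ^ n = 1) := by
    intro a n ha
    rw [← D.inj.eq_iff, map_pow, map_one, ha, conj_pow, conj_eq_one_iff, ← map_pow,
      ← map_one D.ι, D.inj.eq_iff]
  obtain ⟨e, hev, hek⟩ := z_rigid k ((hpow k 3 hk).mpr tM_facts.2.2.2.2.2.2) (D.inj (by
      rw [map_mul, map_mul, map_inv, hk, show c1 * D.ι zM * c1⁻¹ * D.ι vM * (c1 * D.ι zM * c1⁻¹)⁻¹ =
        c1 * D.ι zM * (c1⁻¹ * D.ι vM * c1) * (D.ι zM)⁻¹ * c1⁻¹ by group,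
        show c1⁻¹ * D.ι vM * c1 = D.ι vM by rw [mul_assoc, ← hc1v.eq, inv_mul_cancel_left],
        ← map_inv, mul_assoc c1, mul_assoc c1, ← map_mul, ← map_mul]
      exact hEfix uM facts.2.2.2.1)) (D.inj (by
      rw [map_mul, map_mul, map_inv, hk, show c1 * D.ι zM * c1⁻¹ * D.ι uM * (c1 * D.ι zM * c1⁻¹)⁻¹ =
        c1 * D.ι zM * (c1⁻¹ * D.ι uM * c1) * (D.ι zM)⁻¹ * c1⁻¹ by group,
        show c1⁻¹ * D.ι uM * c1 = D.ι uM by
          rw [mul_assoc, ← (hcE _ ((D.mem_E _).mpr facts.2.2.2.1)).eq, inv_mul_cancel_left],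
        ← map_inv, mul_assoc c1, mul_assoc c1, ← map_mul, ← map_mul, facts.2.2.2.2.2.2.1]
      exact hEfix _ (by rw [mul_assoc, facts.2.2.2.1, ← mul_assoc])))
  set c2 := (D.ι e)⁻¹ * c1 with hc2
  have hz : c2 * D.ι zM * c2⁻¹ = D.ι zM := by
    calc c2 * D.ι zM * c2⁻¹ = (D.ι e)⁻¹ * (c1 * D.ι zM * c1⁻¹) * D.ι e := by rw [hc2]; group
      _ = D.ι (e⁻¹ * k * e) := by rw [← hk, map_mul, map_mul, map_inv]
      _ = D.ι zM := by rw [← hek]; congr 1; group
  have hE2 : ∀ a : Cmod, a * vM = vM * a → c2 * D.ι a * c2⁻¹ = D.ι a := fun a ha => by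
    calc c2 * D.ι a * c2⁻¹ = (D.ι e)⁻¹ * (c1 * D.ι a * c1⁻¹) * D.ι e := by rw [hc2]; group
      _ = D.ι (e⁻¹ * a * e) := by rw [hEfix a ha, map_mul, map_mul, map_inv]
      _ = D.ι a := by rw [mul_assoc, commute_of_commute_vM a ha e hev, inv_mul_cancel_left]
  have hc2t : Commute c2 D.t := ((D.comm_t e).inv_left).mul_left hc1t
  obtain ⟨x', hx'⟩ := D.conj_range hc2t xM
  have hxM : x' = xM := by
    have hmul : ∀ (a b a' b' : Cmod), D.ι a' = c2 * D.ι a * c2⁻¹ → D.ι b' = c2 * D.ι b * c2⁻¹ →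
        D.ι (a' * b') = c2 * D.ι (a * b) * c2⁻¹ := fun a b a' b' ha hb => by
      rw [map_mul, map_mul, ha, hb, conj_mul]
    have himg : ∀ a a' : Cmod, D.ι a' = c2 * D.ι a * c2⁻¹ → (a' = 1 ↔ a = 1) := fun a a' ha => by
      rw [← D.inj.eq_iff, map_one, ha, conj_eq_one_iff, ← map_one D.ι, D.inj.eq_iff]
    have hvv : D.ι vM = c2 * D.ι vM * c2⁻¹ := (hE2 vM rfl).symm
    refine x_rigid x' ?_ (fun h => xM_facts.1 ((himg _ _ hx').mp h)) ?_ ?_
    · exact (himg (xM ^ 3) _ (by rw [map_pow, map_pow, hx', conj_pow])).mpr xM_facts.2.1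
    · refine eq_inv_of_mul_eq_one_left ((himg _ _ (hmul _ _ _ _ (hmul _ _ _ _ (hmul _ _ _ _ hvv hx') hvv) hx')).mpr ?_)
      rw [xM_facts.2.2.1, inv_mul_cancel]
    · refine (himg ((zM * vM * xM) ^ 2) _ ?_).mpr facts.2.2.2.2.2.2.2.2.2.2
      rw [map_pow, map_pow, hmul _ _ _ _ (hmul _ _ _ _ hz.symm hvv) hx', conj_pow]
  refine ⟨w⁻¹ * e, c2, fun a => ?_, ?_⟩
  · have htop := eq_top_of_mem (H := (Subgroup.centralizer ({c2} : Set G)).comap D.ι)
      (fun b hb => mem_centralizer_singleton_iff.mpr (mul_inv_eq_iff_eq_mul.mp (hE2 b hb)).symm)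
      (mem_centralizer_singleton_iff.mpr (mul_inv_eq_iff_eq_mul.mp hz).symm)
      (mem_centralizer_singleton_iff.mpr (mul_inv_eq_iff_eq_mul.mp (hxM ▸ hx').symm).symm)
    exact (mem_centralizer_singleton_iff.mp
      (htop ▸ mem_top a : a ∈ (Subgroup.centralizer ({c2} : Set G)).comap D.ι)).symm
  · rw [hc2, hc1, map_mul, map_inv]; group

/-- The Sylow subgroup centralises `E`. -/
theorem P_centralizes {s : G} (hs : s ∈ (D.P : Subgroup G)) : ∀ y ∈ D.E, Commute s y := by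
  haveI : Fact (Nat.Prime 2) := ⟨Nat.prime_two⟩
  obtain ⟨k, b, hb, rfl⟩ := D.decompose (D.hP s hs)
  intro y hy
  obtain ⟨l, hl, rfl⟩ := D.exists_of_mem_E hy
  have hkN : ∀ a, a * vM = vM * a → k * a * k⁻¹ * vM = vM * (k * a * k⁻¹) := by
    intro a ha
    rw [← D.mem_E]
    have := (mem_normalizer_iff.mp (D.P_normalizes hs) _).mp ((D.mem_E a).mpr ha)
    rwa [show D.ι k * b * D.ι a * (D.ι k * b)⁻¹ = D.ι (k * a * k⁻¹) by
      rw [map_mul, map_mul, map_inv, show D.ι k * b * D.ι a * (D.ι k * b)⁻¹ =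
        D.ι k * (b * D.ι a) * b⁻¹ * (D.ι k)⁻¹ by group, (hb a).eq]; group] at this
  obtain ⟨m, hm⟩ := (D.P.isPGroup' ⟨D.ι k * b, hs⟩)
  have hpow : (D.ι k * b) ^ 2 ^ m = 1 := congrArg Subtype.val hm
  rw [((hb k).symm).mul_pow] at hpow
  have hkz : ∀ a : Cmod, k ^ 2 ^ m * a = a * k ^ 2 ^ m := fun a => D.inj (by
    rw [map_mul, map_mul, map_pow, eq_inv_of_mul_eq_one_left hpow]
    exact ((hb a).pow_left _).inv_left.eq)
  have h8 : k ^ 8 = 1 := by
    have h2 : (k ^ 2 ^ m) * (k ^ 2 ^ m) = 1 := by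
      rcases center_eq_tM (k ^ 2 ^ m) (hkz zM) (hkz yM) with h | h
      · rw [h, one_mul]
      · rw [h, tM_facts.2.1]
    rw [← pow_add, ← two_mul, ← pow_succ'] at h2
    obtain ⟨j, -, hj⟩ := (Nat.dvd_prime_pow Nat.prime_two).mp (orderOf_dvd_of_pow_eq_one h2)
    have h120 := orderOf_dvd_natCard k
    rw [card_Cmod, hj] at h120
    have hj3 : j ≤ 3 := by
      by_contra hlt
      have : 2 ^ 4 ∣ 120 := (Nat.pow_dvd_pow 2 (by omega : 4 ≤ j)).trans h120
      norm_num at this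
    refine orderOf_dvd_iff_pow_eq_one.mp ?_
    rw [hj]
    exact (Nat.pow_dvd_pow 2 hj3).trans (by norm_num)
  have hkv : k * vM = vM * k :=
    normalizing_two k (hkN vM rfl) (hkN uM facts.2.2.2.1) h8
  exact Commute.mul_left ((show Commute k l from commute_of_commute_vM k hkv l hl).map D.ι) (hb l)

end Weak

end CfsgLib.JankoWeak
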