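import Mathlib
import Cfsg.Agent.Lib.JankoWeak.Frame
import Cfsg.Prelude.Def_TwoFusion

/-!
# The complement in the centraliser of the weak closure
-/

set_option autoImplicit false
set_option linter.style.haveILetI false

open Subgroup CfsgLib.JankoOne

namespace CfsgLib.JankoWeak

namespace Weak

variable {G : Type*} [Group G] [Finite G] (D : Weak G)

/-- The normaliser of the elementary group. -/
def N : Subgroup G := normalizer (D.E : Set G)

/-- The elements centralised by the weak closure and all its conjugates under the normaliser. -/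
def X : Subgroup G :=
  ⨅ n : D.N, (Subgroup.centralizer (D.ι.range : Set G)).comap (MulAut.conj (n : G)⁻¹).toMonoidHom

omit [Finite G] in
theorem mem_X {x : G} :
    x ∈ D.X ↔ ∀ n ∈ D.N, ∀ a, Commute (n⁻¹ * x * n) (D.ι a) := by
  simp only [X, mem_iInf, mem_comap, mem_centralizer_iff, MulEquiv.coe_toMonoidHom,
    MulAut.conj_apply, inv_inv]
  constructor
  · exact fun h n hn a => (h ⟨n, hn⟩ _ ⟨a, rfl⟩).symm
  · rintro h n _ ⟨a, rfl⟩
    exact (h n n.2 a).symm

omit [Finite G] in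
theorem X_comm {x : G} (hx : x ∈ D.X) (a : Cmod) : Commute x (D.ι a) := by
  have := D.mem_X.mp hx 1 (one_mem _) a
  simpa using this

omit [Finite G] in
theorem X_conj {x m : G} (hx : x ∈ D.X) (hm : m ∈ D.N) : m * x * m⁻¹ ∈ D.X := by
  refine D.mem_X.mpr fun n hn a => ?_
  have := D.mem_X.mp hx (m⁻¹ * n) (mul_mem (inv_mem hm) hn) a
  rwa [show n⁻¹ * (m * x * m⁻¹) * n = (m⁻¹ * n)⁻¹ * x * (m⁻¹ * n) by group]

omit [Finite G] in
theorem mem_N_of_centralizes {b : G} (hb : ∀ y ∈ D.E, Commute b y) : b ∈ D.N :=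
  centralizer_le_normalizer _ (mem_centralizer_iff.mpr fun y hy => (hb y hy).eq.symm)

omit [Finite G] in
theorem mem_N_of_comm {b : G} (hb : ∀ a, Commute b (D.ι a)) : b ∈ D.N :=
  D.mem_N_of_centralizes fun y hy => by
    obtain ⟨k, -, rfl⟩ := D.exists_of_mem_E hy
    exact hb k

/-- The centraliser of `E` splits. -/
theorem split {f : G} (hf : ∀ y ∈ D.E, Commute f y) :
    ∃ e ∈ D.E, ∃ b, (∀ a, Commute b (D.ι a)) ∧ f = e * b := by
  obtain ⟨k, b, hb, rfl⟩ := D.decompose (hf D.t D.t_mem_E)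
  refine ⟨D.ι k, (D.mem_E k).mpr (D.inj ?_), b, hb, rfl⟩
  have h := hf (D.ι vM) ((D.mem_E vM).mpr rfl)
  rw [map_mul, map_mul]
  calc D.ι k * D.ι vM = D.ι k * b * D.ι vM * b⁻¹ := by
        rw [mul_assoc (D.ι k) b, (hb vM).eq]; group
    _ = D.ι vM * D.ι k := by rw [h.eq]; group

theorem split_conj {f n : G} (hn : n ∈ D.N) (hf : ∀ y ∈ D.E, Commute f y) :
    ∃ e ∈ D.E, ∃ b, (∀ a, Commute (n⁻¹ * b * n) (D.ι a)) ∧ f = e * b := by
  obtain ⟨e, he, b, hb, h⟩ := D.split (f := n⁻¹ * f * n) (fun y hy => by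
    have := hf (n * y * n⁻¹) ((mem_normalizer_iff.mp hn y).mp hy)
    show n⁻¹ * f * n * y = y * (n⁻¹ * f * n)
    calc n⁻¹ * f * n * y = n⁻¹ * (f * (n * y * n⁻¹)) * n := by group
      _ = _ := by rw [this.eq]; group)
  refine ⟨n * e * n⁻¹, (mem_normalizer_iff.mp hn e).mp he, n * b * n⁻¹, fun a => ?_, ?_⟩
  · rw [show n⁻¹ * (n * b * n⁻¹) * n = b by group]; exact hb a
  · rw [show n * e * n⁻¹ * (n * b * n⁻¹) = n * (e * b) * n⁻¹ by group, ← h]; group

theorem E_inf_X {x : G} (hE : x ∈ D.E) (hX : x ∈ D.X) : x = 1 := by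
  obtain ⟨k, hk, rfl⟩ := D.exists_of_mem_E hE
  have hc : ∀ l : Cmod, k * l = l * k := fun l =>
    D.inj (by rw [map_mul, map_mul]; exact (D.X_comm hX l).eq)
  rcases center_eq_tM k (hc _) (hc _) with rfl | rfl
  · rw [map_one]
  exfalso
  obtain ⟨n, hn, hne⟩ := D.transitive (k := vM) rfl tM_facts.2.2.1
  obtain ⟨l, hl, hle⟩ := D.exists_of_mem_E
    (show n⁻¹ * D.t * n ∈ D.E from (mem_normalizer_iff.mp hn _).mpr (by
      rw [show n * (n⁻¹ * D.t * n) * n⁻¹ = D.t by group]; exact D.t_mem_E))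
  have hl' : ∀ a : Cmod, l * a = a * l := fun a => D.inj (by
    rw [map_mul, map_mul, hle, ← D.ι_t]; exact (D.mem_X.mp hX n hn a).eq)
  rcases center_eq_tM l (hl' _) (hl' _) with rfl | rfl
  · rw [map_one] at hle
    exact D.t_ne (by
      calc D.t = n * (n⁻¹ * D.t * n) * n⁻¹ := by group
        _ = 1 := by rw [← hle]; group)
  · rw [D.ι_t] at hle
    apply tM_facts.2.2.2.1
    refine D.inj ?_
    calc D.ι vM = n * D.t * n⁻¹ := hne.symm
      _ = n * (n⁻¹ * D.t * n) * n⁻¹ := by rw [← hle]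
      _ = D.t := by group
      _ = D.ι tM := D.ι_t.symm

omit [Finite G] in
/-- A square of an element centralising the weak closure times `E` lies in it again. -/
theorem sq_comm {n e b : G} (hn : n ∈ D.N) (he : e ∈ D.E) (hb : ∀ a, Commute (n⁻¹ * b * n) (D.ι a)) :
    Commute e b ∧ ∀ a, Commute (n⁻¹ * (e * b * (e * b)) * n) (D.ι a) := by
  obtain ⟨l, -, hl⟩ := D.exists_of_mem_E (show n⁻¹ * e * n ∈ D.E from
    (mem_normalizer_iff.mp hn _).mpr (by rwa [show n * (n⁻¹ * e * n) * n⁻¹ = e by group]))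
  have hc : Commute e b := by
    have h := (hb l).eq
    rw [hl] at h
    show e * b = b * e
    calc e * b = n * (n⁻¹ * e * n * (n⁻¹ * b * n)) * n⁻¹ := by group
      _ = _ := by rw [← h]; group
  refine ⟨hc, fun a => ?_⟩
  rw [Commute.mul_mul_mul_comm hc.symm, D.E_sq he, one_mul,
    show n⁻¹ * (b * b) * n = n⁻¹ * b * n * (n⁻¹ * b * n) by group]
  exact (hb a).mul_left (hb a)

theorem sq_mem_X {f : G} (hf : ∀ y ∈ D.E, Commute f y) : f * f ∈ D.X := by
  refine D.mem_X.mpr fun n hn => ?_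
  obtain ⟨e, he, b, hb, rfl⟩ := D.split_conj hn hf
  exact (D.sq_comm hn he hb).2

/-- Every element centralising the weak closure is in `⟨t⟩` times the complement. -/
theorem complement {b : G} (hb : ∀ a, Commute b (D.ι a)) : b ∈ D.X ∨ D.t * b ∈ D.X := by
  classical
  haveI : Fact (Nat.Prime 7) := ⟨by norm_num⟩
  haveI : Fact (Nat.Prime 3) := ⟨Nat.prime_three⟩
  -- the group of index twenty-one
  set F : Subgroup D.N := (Subgroup.centralizer (D.E : Set G)).subgroupOf D.N with hF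
  have hmemF : ∀ f : D.N, f ∈ F ↔ ∀ y ∈ D.E, Commute (f : G) y := fun f => by
    rw [hF, mem_subgroupOf, mem_centralizer_iff]
    exact ⟨fun h y hy => (h y hy).symm, fun h y hy => (h y hy).symm⟩
  haveI hFn : F.Normal := by
    refine ⟨fun f hf n => (hmemF _).mpr fun y hy => ?_⟩
    have hy' : (n : G)⁻¹ * y * n ∈ D.E := (mem_normalizer_iff.mp n.2 _).mpr (by
      rwa [show (n : G) * ((n : G)⁻¹ * y * n) * (n : G)⁻¹ = y by group])
    show (n : G) * f * (n : G)⁻¹ * y = y * ((n : G) * f * (n : G)⁻¹)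
    calc (n : G) * f * (n : G)⁻¹ * y = n * ((f : G) * ((n : G)⁻¹ * y * n)) * (n : G)⁻¹ := by group
      _ = _ := by rw [((hmemF f).mp hf _ hy').eq]; group
  set q := QuotientGroup.mk' F with hq
  set z : D.N := ⟨D.ι zM, D.z_mem⟩ with hz
  set St : Subgroup D.N := (Subgroup.centralizer ({D.t} : Set G)).subgroupOf D.N with hSt
  have hStidx : St.index = 7 := by
    letI : MulAction D.N G :=
      MulAction.compHom G ((ConjAct.toConjAct : G ≃* ConjAct G).toMonoidHom.comp D.N.subtype)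
    have hsmul : ∀ (n : D.N) (x : G), n • x = (n : G) * x * (n : G)⁻¹ := fun n x => rfl
    have hst : MulAction.stabilizer D.N D.t = St := by
      ext n
      rw [MulAction.mem_stabilizer_iff, hsmul, hSt, mem_subgroupOf, mem_centralizer_singleton_iff,
        mul_inv_eq_iff_eq_mul]
    have hor : MulAction.orbit D.N D.t = (D.E : Set G) \ {1} := by
      ext x
      constructor
      · rintro ⟨n, rfl⟩
        exact ⟨(mem_normalizer_iff.mp n.2 D.t).mp D.t_mem_E,
          fun h => D.t_ne (conj_eq_one_iff.mp h)⟩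
      · rintro ⟨hxE, hx⟩
        obtain ⟨k, hk, rfl⟩ := D.exists_of_mem_E hxE
        obtain ⟨n, hn, hne⟩ := D.transitive hk fun h => hx (by rw [h, map_one]; rfl)
        exact ⟨⟨n, hn⟩, hne⟩
    rw [← hst, MulAction.index_stabilizer, hor, Set.ncard_sdiff (by simp [one_mem]),
      Set.ncard_singleton, ← Nat.card_coe_set_eq]
    rw [show Nat.card (D.E : Set G) = 8 from D.card_E]
  have hzne : q z ≠ 1 := fun h => by
    have h' := (hmemF z).mp ((QuotientGroup.eq_one_iff z).mp h) (D.ι vM) ((D.mem_E vM).mpr rfl)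
    exact zM_cycle.1 (mul_inv_eq_iff_eq_mul.mpr (D.inj (by rw [map_mul, map_mul]; exact h'.eq)))
  have hzord : orderOf (q z) = 3 := by
    refine orderOf_eq_prime ?_ hzne
    rw [← map_pow, show z ^ 3 = 1 from Subtype.ext (by
      show D.ι zM ^ 3 = 1
      rw [← map_pow, tM_facts.2.2.2.2.2.2, map_one]), map_one]
  have hStmap : St.map q = zpowers (q z) := by
    apply le_antisymm
    · rintro _ ⟨c, hc, rfl⟩
      obtain ⟨k, b', hb', hcb⟩ := D.decompose (mem_centralizer_singleton_iff.mp hc : Commute (c : G) D.t)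
      have hkN : ∀ a, a * vM = vM * a → k * a * k⁻¹ * vM = vM * (k * a * k⁻¹) := by
        intro a ha
        rw [← D.mem_E]
        have h := (mem_normalizer_iff.mp c.2 _).mp ((D.mem_E a).mpr ha)
        rwa [show (c : G) * D.ι a * (c : G)⁻¹ = D.ι (k * a * k⁻¹) by
          rw [hcb, map_mul, map_mul, map_inv, show D.ι k * b' * D.ι a * (D.ι k * b')⁻¹ =
            D.ι k * (b' * D.ι a) * b'⁻¹ * (D.ι k)⁻¹ by group, (hb' a).eq]; group] at h
      obtain ⟨e, he, hk⟩ := normalizer_cv k (hkN vM rfl) (hkN uM facts.2.2.2.1)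
      obtain ⟨i, hi⟩ : ∃ i : ℕ, k = e * zM ^ i := by
        rcases hk with h | h | h
        · exact ⟨0, by rw [h, pow_zero, mul_one]⟩
        · exact ⟨1, by rw [h, pow_one]⟩
        · exact ⟨2, by rw [h, pow_two, mul_assoc]⟩
      refine ⟨(i : ℤ), ?_⟩
      show q z ^ (i : ℤ) = q c
      rw [zpow_natCast, ← map_pow, hq]
      symm
      refine QuotientGroup.eq_iff_div_mem.mpr ?_
      rw [hmemF]
      intro y hy
      have e1 : ((c / z ^ i : D.N) : G) = D.ι e * b' := by
        show (c : G) / D.ι zM ^ i = _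
        rw [hcb, hi, div_eq_mul_inv, map_mul, ← map_pow, ← map_inv, mul_assoc, (hb' _).eq,
          ← mul_assoc, ← map_mul, ← map_mul, mul_inv_cancel_right]
      rw [e1]
      refine Commute.mul_left (D.E_comm ((D.mem_E e).mpr he) hy) ?_
      obtain ⟨a, -, rfl⟩ := D.exists_of_mem_E hy
      exact hb' a
    · rw [zpowers_le]
      exact ⟨z, mem_centralizer_singleton_iff.mpr (D.comm_t zM).eq, rfl⟩
  have hQ : Nat.card (D.N ⧸ F) = 21 := by
    rw [← (St.map q).card_mul_index, hStmap, Nat.card_zpowers, hzord, ← hStmap,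
      index_map_eq _ (QuotientGroup.mk'_surjective F) (by
        rw [QuotientGroup.ker_mk']
        intro f hf
        exact mem_centralizer_singleton_iff.mpr ((hmemF f).mp hf D.t D.t_mem_E).eq), hStidx]
  obtain ⟨Pq⟩ : Nonempty (Sylow 7 (D.N ⧸ F)) := inferInstance
  have hPcard : Nat.card (Pq : Subgroup (D.N ⧸ F)) = 7 := by
    rw [Pq.card_eq_multiplicity, hQ,
      show (21 : ℕ) = 3 * 7 from rfl, Nat.factorization_mul (by norm_num) (by norm_num),
      Finsupp.add_apply, Nat.Prime.factorization (by norm_num : Nat.Prime 3),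
      Nat.Prime.factorization (by norm_num : Nat.Prime 7)]
    simp
  have hPidx : (Pq : Subgroup (D.N ⧸ F)).index = 3 := by
    have := (Pq : Subgroup (D.N ⧸ F)).card_mul_index
    rw [hPcard, hQ] at this
    omega
  haveI hPn : (Pq : Subgroup (D.N ⧸ F)).Normal := by
    have h1 := card_sylow_modEq_one 7 (D.N ⧸ F)
    have h2 := Pq.card_dvd_index
    rw [hPidx] at h2
    have h3 : Nat.card (Sylow 7 (D.N ⧸ F)) = 1 := by
      rcases (Nat.dvd_prime Nat.prime_three).mp h2 with h | h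
      · exact h
      · rw [h] at h1; exact absurd h1 (by decide)
    haveI : Subsingleton (Sylow 7 (D.N ⧸ F)) := (Nat.card_eq_one_iff_unique.mp h3).1
    exact Sylow.normal_of_subsingleton Pq
  have hcomm : ∀ a c : D.N ⧸ F, a * c * a⁻¹ * c⁻¹ ∈ (Pq : Subgroup (D.N ⧸ F)) := by
    intro a c
    haveI : IsCyclic ((D.N ⧸ F) ⧸ (Pq : Subgroup (D.N ⧸ F))) :=
      isCyclic_of_prime_card (p := 3) (by rw [← index_eq_card, hPidx])
    rw [← QuotientGroup.eq_one_iff]
    letI := IsCyclic.commGroup (α := (D.N ⧸ F) ⧸ (Pq : Subgroup (D.N ⧸ F)))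
    simp only [QuotientGroup.mk_mul, QuotientGroup.mk_inv]
    rw [mul_comm ((a : (D.N ⧸ F) ⧸ (Pq : Subgroup (D.N ⧸ F)))), mul_inv_cancel_right, mul_inv_cancel]
  -- the abelian section
  set X' : Subgroup F := (D.X.subgroupOf D.N).subgroupOf F with hX'
  haveI hX'n : X'.Normal := ⟨fun x hx f => D.X_conj hx f.1.2⟩
  have hLsq : ∀ l : F ⧸ X', l * l = 1 := by
    intro l
    induction l using QuotientGroup.induction_on with
    | H f => exact (QuotientGroup.eq_one_iff _).mpr (D.sq_mem_X ((hmemF f.1).mp f.2))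
  letI : CommGroup (F ⧸ X') :=
    { (inferInstance : Group (F ⧸ X')) with
      mul_comm := fun a c => by
        have h := hLsq (a * c)
        have ha : a⁻¹ = a := inv_eq_of_mul_eq_one_left (hLsq a)
        have hc : c⁻¹ = c := inv_eq_of_mul_eq_one_left (hLsq c)
        rw [← inv_eq_of_mul_eq_one_left h, mul_inv_rev, ha, hc] }
  let actN : D.N →* MulAut (F ⧸ X') :=
    { toFun := fun n => QuotientGroup.congr X' X' (MulAut.conjNormal n) (by
        ext x
        constructor
        · rintro ⟨y, hy, rfl⟩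
          exact D.X_conj hy n.2
        · intro hx
          refine ⟨MulAut.conjNormal n⁻¹ x, D.X_conj hx (inv_mem n.2), ?_⟩
          apply Subtype.ext; apply Subtype.ext
          simp [mul_assoc])
      map_one' := by
        ext l
        induction l using QuotientGroup.induction_on with
        | H f => simp
      map_mul' := fun a c => by
        ext l
        induction l using QuotientGroup.induction_on with
        | H f => simp }
  have hactF : F ≤ actN.ker := by
    intro f hf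
    rw [MonoidHom.mem_ker]
    ext l
    induction l using QuotientGroup.induction_on with
    | H g =>
      show (↑(MulAut.conjNormal f g) : F ⧸ X') = ↑g
      rw [show MulAut.conjNormal f g = ⟨f, hf⟩ * g * (⟨f, hf⟩ : F)⁻¹ from Subtype.ext (by simp),
        QuotientGroup.mk_mul, QuotientGroup.mk_mul, QuotientGroup.mk_inv,
        mul_inv_cancel_comm]
  let act : D.N ⧸ F →* MulAut (F ⧸ X') := QuotientGroup.lift F actN hactF
  let mk : ∀ f : G, (∀ y ∈ D.E, Commute f y) → F ⧸ X' := fun f hf =>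
    ((⟨⟨f, D.mem_N_of_centralizes hf⟩, (hmemF _).mpr hf⟩ : F) : F ⧸ X')
  -- the image of `E`
  set Eb : Subgroup (F ⧸ X') :=
    ((D.E.subgroupOf D.N).subgroupOf F).map (QuotientGroup.mk' X') with hEb
  -- moved conjugates of `z` act trivially modulo `E`
  have hzn : ∀ (n : D.N) (l : F ⧸ X'), act (q (n * z * n⁻¹)) l * l⁻¹ ∈ Eb := by
    intro n l
    induction l using QuotientGroup.induction_on with
    | H f =>
      obtain ⟨e, he, c, hc, hf⟩ := D.split_conj n.2 ((hmemF f.1).mp f.2)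
      set y : G := ((n : G) * D.ι zM * (n : G)⁻¹) * e * ((n : G) * D.ι zM * (n : G)⁻¹)⁻¹
      have hyE : y ∈ D.E := (mem_normalizer_iff.mp (n * z * n⁻¹ : D.N).2 e).mp he
      have hval : ((MulAut.conjNormal (n * z * n⁻¹) f : F) : D.N) * (f : D.N)⁻¹ =
          ⟨y * e⁻¹, le_normalizer (mul_mem hyE (inv_mem he))⟩ := by
        apply Subtype.ext
        show (n : G) * D.ι zM * (n : G)⁻¹ * ((f : D.N) : G) * ((n : G) * D.ι zM * (n : G)⁻¹)⁻¹ *
          ((f : D.N) : G)⁻¹ = y * e⁻¹
        rw [hf]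
        have h1 : D.ι zM * ((n : G)⁻¹ * c * n) * (D.ι zM)⁻¹ = (n : G)⁻¹ * c * n := by
          rw [(hc zM).symm.eq, mul_inv_cancel_right]
        calc (n : G) * D.ι zM * (n : G)⁻¹ * (e * c) * ((n : G) * D.ι zM * (n : G)⁻¹)⁻¹ * (e * c)⁻¹
            = y * ((n : G) * (D.ι zM * ((n : G)⁻¹ * c * n) * (D.ι zM)⁻¹) * (n : G)⁻¹) * c⁻¹ * e⁻¹ := by
              simp only [y]; group
          _ = y * e⁻¹ := by rw [h1]; group
      refine ⟨MulAut.conjNormal (n * z * n⁻¹) f * f⁻¹, ?_, rfl⟩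
      show (((MulAut.conjNormal (n * z * n⁻¹) f * f⁻¹ : F) : D.N) : G) ∈ D.E
      rw [Subgroup.coe_mul, Subgroup.coe_inv, hval]
      exact mul_mem hyE (inv_mem he)
  -- trivial action modulo `E` is a subgroup
  let triv : Subgroup (D.N ⧸ F) :=
    { carrier := {p | ∀ l, act p l * l⁻¹ ∈ Eb}
      one_mem' := fun l => by simp [one_mem]
      mul_mem' := fun {a c} ha hc l => by
        have := mul_mem (ha (act c l)) (hc l)
        rwa [map_mul, MulAut.mul_apply, show act a (act c l) * l⁻¹ =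
          act a (act c l) * (act c l)⁻¹ * (act c l * l⁻¹) by group]
      inv_mem' := fun {a} ha l => by
        have := inv_mem (ha (act a⁻¹ l))
        rwa [← MulAut.mul_apply, ← map_mul, mul_inv_cancel, map_one, MulAut.one_apply,
          mul_inv_rev, inv_inv] at this }
  obtain ⟨n, hn, hne⟩ := D.transitive (k := vM) rfl tM_facts.2.2.1
  set p0 := q (⟨n, hn⟩ * z * (⟨n, hn⟩ : D.N)⁻¹) * (q z)⁻¹ with hp0
  have hp0P : p0 ∈ (Pq : Subgroup (D.N ⧸ F)) := by
    rw [hp0, map_mul, map_mul, map_inv]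
    exact hcomm _ _
  have hp0t : p0 ∈ triv :=
    mul_mem (hzn _) (inv_mem ((fun l => by simpa using hzn 1 l) : q z ∈ triv))
  have hp01 : p0 ≠ 1 := by
    rw [hp0, Ne, mul_inv_eq_one]
    intro h
    have h' := (hmemF _).mp ((QuotientGroup.eq).mp h.symm) (D.ι vM) ((D.mem_E vM).mpr rfl)
    apply zM_cycle.1
    refine D.inj ?_
    rw [map_mul, map_mul, map_inv]
    calc D.ι zM * D.ι vM * (D.ι zM)⁻¹
        = D.ι zM * (((D.ι zM)⁻¹ * (n * D.ι zM * n⁻¹)) * D.ι vM *
            ((D.ι zM)⁻¹ * (n * D.ι zM * n⁻¹))⁻¹) * (D.ι zM)⁻¹ := by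
          conv_lhs => rw [show D.ι vM = ((D.ι zM)⁻¹ * (n * D.ι zM * n⁻¹)) * D.ι vM *
            ((D.ι zM)⁻¹ * (n * D.ι zM * n⁻¹))⁻¹ from (by
              rw [show ((D.ι zM)⁻¹ * (n * D.ι zM * n⁻¹)) * D.ι vM = D.ι vM *
                ((D.ι zM)⁻¹ * (n * D.ι zM * n⁻¹)) from h'.eq, mul_inv_cancel_right])]
      _ = n * (D.ι zM * (n⁻¹ * D.ι vM * n) * (D.ι zM)⁻¹) * n⁻¹ := by group
      _ = D.ι vM := by
          rw [show n⁻¹ * D.ι vM * n = D.t by rw [← hne]; group, (D.comm_t zM).eq,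
            mul_inv_cancel_right, hne]
  have hPtriv : (Pq : Subgroup (D.N ⧸ F)) ≤ triv := by
    have : zpowers p0 = (Pq : Subgroup (D.N ⧸ F)) := by
      refine eq_of_le_of_card_ge (zpowers_le.mpr hp0P) ?_
      rw [hPcard, Nat.card_zpowers]
      have h7 := (Pq : Subgroup (D.N ⧸ F)).orderOf_dvd_natCard hp0P
      rw [hPcard] at h7
      rcases (Nat.dvd_prime (by norm_num)).mp h7 with h | h
      · exact absurd (orderOf_eq_one_iff.mp h) hp01
      · rw [h]
    rw [← this, zpowers_le]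
    exact hp0t
  -- the norm
  have hbE : ∀ y ∈ D.E, Commute b y := fun y hy => by
    obtain ⟨a, -, rfl⟩ := D.exists_of_mem_E hy
    exact hb a
  set l0 := mk b hbE with hl0
  have hzl0 : act (q z) l0 = l0 := by
    show ((MulAut.conjNormal z (⟨⟨b, D.mem_N_of_centralizes hbE⟩, (hmemF _).mpr hbE⟩ : F) : F) :
      F ⧸ X') = _
    refine congrArg (QuotientGroup.mk : F → F ⧸ X') ?_
    apply Subtype.ext; apply Subtype.ext
    show D.ι zM * b * (D.ι zM)⁻¹ = b
    rw [← (hb zM).eq, mul_inv_cancel_right]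
  letI : Fintype (Pq : Subgroup (D.N ⧸ F)) := Fintype.ofFinite _
  set L := ∏ p : (Pq : Subgroup (D.N ⧸ F)), act p l0 with hL
  have hLz : act (q z) L = L := by
    rw [hL, map_prod]
    refine Fintype.prod_equiv (MulAut.conjNormal (q z) :
      MulAut (Pq : Subgroup (D.N ⧸ F))).toEquiv _ _ fun p => ?_
    show act (q z) (act p l0) = act (q z * p * (q z)⁻¹) l0
    have hzl0' : act (q z)⁻¹ l0 = l0 := by
      conv_lhs => rw [← hzl0]
      rw [← MulAut.mul_apply, ← map_mul, inv_mul_cancel, map_one, MulAut.one_apply]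
    rw [map_mul, map_mul, MulAut.mul_apply, MulAut.mul_apply, hzl0']
  have hLP : ∀ p ∈ (Pq : Subgroup (D.N ⧸ F)), act p L = L := by
    intro p hp
    rw [hL, map_prod]
    refine Fintype.prod_equiv (Equiv.mulLeft ⟨p, hp⟩) _ _ fun c => ?_
    show act p (act c l0) = act (p * c) l0
    rw [map_mul, MulAut.mul_apply]
  have hL1 : L = 1 := by
    induction hf : L using QuotientGroup.induction_on with
    | H f =>
      rw [hf] at hLz hLP
      refine (QuotientGroup.eq_one_iff _).mpr (D.mem_X.mpr fun m hm => ?_)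
      obtain ⟨e, he, c, hc, hfe⟩ := D.split_conj hm ((hmemF f.1).mp f.2)
      set zm : D.N := ⟨m, hm⟩ * z * (⟨m, hm⟩ : D.N)⁻¹
      have hfix : act (q zm) (↑f : F ⧸ X') = ↑f := by
        have hP : q zm * (q z)⁻¹ ∈ (Pq : Subgroup (D.N ⧸ F)) := by
          simp only [zm, map_mul, map_inv]
          exact hcomm _ _
        calc act (q zm) (↑f : F ⧸ X') = act (q zm * (q z)⁻¹) (act (q z) (↑f : F ⧸ X')) := by
              rw [← MulAut.mul_apply, ← map_mul, inv_mul_cancel_right]
          _ = ↑f := by rw [hLz, hLP _ hP]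
      have hX2 : (((MulAut.conjNormal zm f)⁻¹ * f : F) : D.N).1 ∈ D.X :=
        (QuotientGroup.eq (s := X')).mp (show ((MulAut.conjNormal zm f : F) : F ⧸ X') = ↑f from hfix)
      set w : G := m * D.ι zM * m⁻¹ with hw
      have hmem : (w * e * w⁻¹)⁻¹ * e ∈ D.X := by
        have h1 : D.ι zM * (m⁻¹ * c * m) * (D.ι zM)⁻¹ = m⁻¹ * c * m := by
          rw [(hc zM).symm.eq, mul_inv_cancel_right]
        have h2 : w * c * w⁻¹ = c := by
          calc w * c * w⁻¹ = m * (D.ι zM * (m⁻¹ * c * m) * (D.ι zM)⁻¹) * m⁻¹ := by rw [hw]; group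
            _ = c := by rw [h1]; group
        have hce : Commute e c := (D.sq_comm hm he hc).1
        have hwE : w * e * w⁻¹ ∈ D.E := (mem_normalizer_iff.mp zm.2 e).mp he
        have hce' : Commute (w * e * w⁻¹) c := (D.sq_comm hm hwE hc).1
        have h3 : (w * (e * c) * w⁻¹)⁻¹ * (e * c) = (w * e * w⁻¹)⁻¹ * e := by
          rw [show w * (e * c) * w⁻¹ = (w * e * w⁻¹) * (w * c * w⁻¹) by group, h2, hce'.eq,
            hce.eq]
          group
        rw [← h3, ← hfe]
        exact hX2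
      have hwE : w * e * w⁻¹ ∈ D.E := (mem_normalizer_iff.mp zm.2 e).mp he
      have he1 : w * e * w⁻¹ = e :=
        inv_mul_eq_one.mp (D.E_inf_X (mul_mem (inv_mem hwE) he) hmem)
      have he' : m⁻¹ * e * m ∈ D.E := (mem_normalizer_iff.mp hm _).mpr (by
        rwa [show m * (m⁻¹ * e * m) * m⁻¹ = e by group])
      obtain ⟨k, hk, hke⟩ := D.exists_of_mem_E he'
      have hkz : zM * k * zM⁻¹ = k := D.inj (by
        rw [map_mul, map_mul, map_inv, hke]
        calc D.ι zM * (m⁻¹ * e * m) * (D.ι zM)⁻¹ = m⁻¹ * (w * e * w⁻¹) * m := by rw [hw]; group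
          _ = _ := by rw [he1])
      intro a
      show Commute (m⁻¹ * ((f : D.N) : G) * m) (D.ι a)
      rw [hfe, show m⁻¹ * (e * c) * m = m⁻¹ * e * m * (m⁻¹ * c * m) by group]
      refine Commute.mul_left ?_ (hc a)
      rw [← hke]
      rcases z_fixed k hk hkz with rfl | rfl
      · rw [map_one]; exact Commute.one_left _
      · exact (show Commute tM a from (commute_tM a).symm).map D.ι
  have hLE : l0 ∈ Eb := by
    have h : L * (l0 ^ 7)⁻¹ ∈ Eb := by
      have e7 : ∏ _p : (Pq : Subgroup (D.N ⧸ F)), l0 = l0 ^ 7 := by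
        rw [Finset.prod_const, Finset.card_univ, ← Nat.card_eq_fintype_card, hPcard]
      rw [hL, ← e7, ← Finset.prod_inv_distrib, ← Finset.prod_mul_distrib]
      refine Subgroup.prod_mem _ fun p _ => ?_
      exact hPtriv p.2 l0
    rw [hL1, one_mul, inv_mem_iff, show l0 ^ 7 = (l0 * l0) ^ 3 * l0 by rw [← pow_two, ← pow_mul, ← pow_succ],
      hLsq, one_pow, one_mul] at h
    exact h
  obtain ⟨e, he, hel⟩ := hLE
  have hx : e⁻¹ * (⟨⟨b, D.mem_N_of_centralizes hbE⟩, (hmemF _).mpr hbE⟩ : F) ∈ X' :=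
    QuotientGroup.eq.mp hel
  set e' : G := ((e : D.N) : G)
  have he' : e' ∈ D.E := he
  have hxG : e'⁻¹ * b ∈ D.X := hx
  obtain ⟨k, hk, hke⟩ := D.exists_of_mem_E he'
  have hkc : ∀ a, k * a = a * k := fun a => D.inj (by
    rw [map_mul, map_mul, hke]
    have h1 : Commute (e'⁻¹ * b) (D.ι a) := D.X_comm hxG a
    have h2 := h1.mul_left ((hb a).inv_left)
    rw [mul_inv_cancel_right] at h2
    exact h2.inv_left.eq |> fun h => by simpa using h)
  rcases center_eq_tM k (hkc _) (hkc _) with rfl | rfl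
  · left; rw [← hke, map_one, inv_one, one_mul] at hxG; exact hxG
  · right; rwa [← hke, D.ι_t, inv_eq_of_mul_eq_one_left D.t_sq] at hxG

end Weak

end CfsgLib.JankoWeak
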