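import Mathlib
import Cfsg.Agent.Lib.J1Unique.Data

/-!
# No subgroup of odd order divisible by `1463` in a simple group of order `175560`
-/

set_option autoImplicit false
set_option linter.style.haveILetI false

open Subgroup CfsgLib.SmallGroups CfsgLib.SmallGroups.Order175560

namespace CfsgLib.JankoWeak

variable {Q : Type*} [Group Q] [Finite Q] [IsSimpleGroup Q]

/-- The Sylow count of an odd subgroup at a prime with a small centraliser. -/
theorem sylow_count {p : ℕ} [hp : Fact p.Prime] (hsq : ¬p ^ 2 ∣ Nat.card Q)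
    (hC : ∀ P : Sylow p Q, Nat.card (centralizer ((P : Subgroup Q) : Set Q)) ∣ 2 * p)
    {H : Subgroup Q} (hH : Odd (Nat.card H)) (hpH : p ∣ Nat.card H) :
    ∃ n a : ℕ, n * (p * a) = Nat.card H ∧ n % p = 1 ∧ a ∣ p - 1 ∧ Odd a := by
  obtain ⟨R⟩ : Nonempty (Sylow p H) := inferInstance
  have hRcard : Nat.card (R : Subgroup H) = p :=
    card_sylow_prime hpH (fun h => hsq (h.trans (card_subgroup_dvd_card H))) R
  set Rq := (R : Subgroup H).map H.subtype
  have hRq : Nat.card Rq = p := by rw [card_map_of_injective H.subtype_injective, hRcard]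
  let P : Sylow p Q := Sylow.ofCard Rq (by
    have h1 : p ∣ Nat.card Q := hpH.trans (card_subgroup_dvd_card H)
    have hge := (hp.out.dvd_iff_one_le_factorization Nat.card_pos.ne').mp h1
    have hlt : (Nat.card Q).factorization p < 2 := by
      by_contra hlt
      exact hsq ((hp.out.pow_dvd_iff_le_factorization Nat.card_pos.ne').mpr (by omega))
    rw [hRq, show (Nat.card Q).factorization p = 1 by omega, pow_one])
  have hPQ : (P : Subgroup Q) = Rq := Sylow.coe_ofCard _ _
  set N := normalizer ((R : Subgroup H) : Set H)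
  set C := centralizer ((R : Subgroup H) : Set H)
  have hCN : C ≤ N := centralizer_le_normalizer _
  have hCp : Nat.card C ∣ p := by
    have hle : C.map H.subtype ≤ centralizer ((P : Subgroup Q) : Set Q) := by
      rintro _ ⟨c, hc, rfl⟩
      rw [hPQ, mem_centralizer_iff]
      rintro _ ⟨r, hr, rfl⟩
      exact congrArg Subtype.val (mem_centralizer_iff.mp hc r hr)
    have h2 := (card_dvd_of_le hle).trans (hC P)
    rw [card_map_of_injective H.subtype_injective] at h2
    have hodd : Odd (Nat.card C) := hH.of_dvd_nat (card_subgroup_dvd_card C)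
    exact (Nat.Coprime.dvd_mul_left (Nat.coprime_two_right.mpr hodd)).mp h2
  have hpC : p ∣ Nat.card C := by
    have hle : (R : Subgroup H) ≤ C := sylow_le_centralizer hRcard
    exact hRcard ▸ card_dvd_of_le hle
  have hCcard : Nat.card C = p := Nat.dvd_antisymm hCp hpC
  haveI : IsCyclic (R : Subgroup H) := isCyclic_of_prime_card hRcard
  have hker := Subgroup.normalizerMonoidHom_ker (R : Subgroup H)
  set φ := Subgroup.normalizerMonoidHom (R : Subgroup H)
  have hindex : φ.ker.index ∣ p - 1 := by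
    rw [index_ker]
    refine (card_subgroup_dvd_card _).trans ?_
    rw [IsCyclic.card_mulAut, hRcard, Nat.totient_prime hp.out]
  have hN : Nat.card N = p * φ.ker.index := by
    rw [← φ.ker.card_mul_index, hker]
    rw [Nat.card_congr (subgroupOfEquivOfLe hCN).toEquiv, hCcard, ← hker]
  refine ⟨Nat.card (Sylow p H), φ.ker.index, ?_, ?_, hindex, ?_⟩
  · rw [← hN, Sylow.card_eq_index_normalizer R]
    exact Subgroup.index_mul_card N
  · have h := card_sylow_modEq_one p H
    rw [Nat.ModEq, Nat.one_mod_eq_one.mpr hp.out.one_lt.ne'] at h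
    exact h
  · exact hH.of_dvd_nat ((hN ▸ dvd_mul_left φ.ker.index p : φ.ker.index ∣ Nat.card N).trans
      (card_subgroup_dvd_card N))

/-- No odd subgroup has order divisible by `1463`. -/
theorem not_odd_subgroup (hQ : Nat.card Q = 175560) {H : Subgroup Q} (hH : Odd (Nat.card H))
    (h : 1463 ∣ Nat.card H) : False := by
  have sq : ∀ p ∈ [7, 11, 19], ¬p ^ 2 ∣ Nat.card Q := by
    rw [hQ]; decide
  have hd := card_subgroup_dvd_card H
  rw [hQ] at hd
  obtain ⟨k, hk⟩ := h
  have hk15 : k ∣ 15 := by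
    have hk120 : k ∣ 120 := Nat.dvd_of_mul_dvd_mul_left (by norm_num : 0 < 1463)
      (by rw [← hk]; exact hd.trans (by norm_num))
    have hko : Odd k := hH.of_dvd_nat (hk ▸ dvd_mul_left k 1463)
    exact Nat.Coprime.dvd_of_dvd_mul_left ((Nat.coprime_two_right.mpr hko).pow_right 3)
      (hk120.trans (by norm_num : 120 ∣ 2 ^ 3 * 15))
  haveI : Fact (Nat.Prime 7) := ⟨by norm_num⟩
  haveI : Fact (Nat.Prime 11) := ⟨by norm_num⟩
  haveI : Fact (Nat.Prime 19) := ⟨by norm_num⟩
  obtain ⟨n7, a7, e7, m7, d7, o7⟩ := sylow_count (p := 7) (sq 7 (by simp)) (fun P => by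
    rw [← sel_snd P]; rcases CfsgLib.J1Unique.sel_seven hQ with e | e <;> rw [e] <;> decide) hH
    (hk ▸ Dvd.dvd.mul_right (by norm_num) k)
  obtain ⟨n11, a11, e11, m11, d11, o11⟩ := sylow_count (p := 11) (sq 11 (by simp)) (fun P => by
    rw [← sel_snd P]; rcases CfsgLib.J1Unique.sel_eleven hQ with e | e <;> rw [e] <;> decide) hH
    (hk ▸ Dvd.dvd.mul_right (by norm_num) k)
  obtain ⟨n19, a19, e19, m19, d19, o19⟩ := sylow_count (p := 19) (sq 19 (by simp)) (fun P => by
    rw [← sel_snd P]; rcases CfsgLib.J1Unique.sel_nineteen hQ with e | e <;> rw [e] <;> decide) hH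
    (hk ▸ Dvd.dvd.mul_right (by norm_num) k)
  rw [Nat.odd_iff] at o7 o11 o19
  rw [hk] at e7 e11 e19
  have b7 : a7 ≤ 6 := Nat.le_of_dvd (by norm_num) d7
  have b11 : a11 ≤ 10 := Nat.le_of_dvd (by norm_num) d11
  have b19 : a19 ≤ 18 := Nat.le_of_dvd (by norm_num) d19
  have bk : k ≤ 15 := Nat.le_of_dvd (by norm_num) hk15
  have c7 : a7 = 1 ∨ a7 = 3 := by interval_cases a7 <;> omega
  have c11 : a11 = 1 ∨ a11 = 5 := by interval_cases a11 <;> omega
  have c19 : a19 = 1 ∨ a19 = 3 ∨ a19 = 9 := by interval_cases a19 <;> omega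
  have ck : k = 1 ∨ k = 3 ∨ k = 5 ∨ k = 15 := by interval_cases k <;> omega
  rcases c7 with rfl | rfl <;> rcases c11 with rfl | rfl <;> rcases c19 with rfl | rfl | rfl <;>
    rcases ck with rfl | rfl | rfl | rfl <;> omega

end CfsgLib.JankoWeak
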