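import Mathlib
import Cfsg.Agent.Lib.JankoWeak.Automizer
import Cfsg.Agent.Lib.JankoWeak.OddSubgroup
import Cfsg.Agent.Lib.Goldschmidt.Product
import Cfsg.Agent.Lib.Fusion.CentralLift.Transfer
import Cfsg.Agent.Lib.Invol.Embedded
import Cfsg.Agent.Lib.JankoExt.Main
import Cfsg.Agent.Lib.PGroup.Counting

/-!
# The normal closure of the involution
-/

set_option autoImplicit false
set_option linter.style.haveILetI false

open Subgroup CfsgLib.JankoOne
open scoped commutatorElement Pointwise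

universe u

namespace CfsgLib.JankoWeak

namespace Weak

variable {G : Type u} [Group G] [Finite G] (D : Weak G)

/-- The normal closure of the involution. -/
def Nc : Subgroup G := normalClosure ({D.t} : Set G)

instance Nc_normal : D.Nc.Normal := normalClosure_normal

omit [Finite G] in
theorem conj_t_mem (g : G) : g * D.t * g⁻¹ ∈ D.Nc :=
  Normal.conj_mem inferInstance _ (subset_normalClosure (Set.mem_singleton _)) g

omit [Finite G] in
theorem range_le : D.ι.range ≤ D.Nc := by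
  rw [D.gen]
  refine (closure_le _).mpr ?_
  rintro x ⟨g, rfl, -⟩
  exact D.conj_t_mem g

omit [Finite G] in
theorem E_le_range : D.E ≤ D.ι.range := map_le_range _ _

theorem C_split {c : G} (hc : Commute c D.t) : ∃ k, ∃ x ∈ D.X, c = D.ι k * x := by
  obtain ⟨k, b, hb, rfl⟩ := D.decompose hc
  rcases D.complement hb with h | h
  · exact ⟨k, b, h, rfl⟩
  · refine ⟨k * tM, D.t * b, h, ?_⟩
    rw [map_mul, D.ι_t, ← mul_assoc, mul_assoc (D.ι k), D.t_sq, mul_one]

theorem range_inf_X {k : Cmod} (hk : D.ι k ∈ D.X) : k = 1 := by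
  have h : k * vM = vM * k := D.inj (by rw [map_mul, map_mul]; exact (D.X_comm hk vM).eq)
  exact D.inj ((D.E_inf_X ((D.mem_E k).mpr h) hk).trans (map_one D.ι).symm)

theorem X_conj_C {c x : G} (hc : Commute c D.t) (hx : x ∈ D.X) : c * x * c⁻¹ ∈ D.X := by
  obtain ⟨k, y, hy, rfl⟩ := D.C_split hc
  have h : y * x * y⁻¹ ∈ D.X := mul_mem (mul_mem hy hx) (inv_mem hy)
  rw [show D.ι k * y * x * (D.ι k * y)⁻¹ = D.ι k * (y * x * y⁻¹) * (D.ι k)⁻¹ by group,
    ← (D.X_comm h k).eq, mul_inv_cancel_right]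
  exact h

omit [Finite G] in
theorem X_comm_t {x : G} (hx : x ∈ D.X) : Commute x D.t := by
  rw [← D.ι_t]; exact D.X_comm hx tM

omit [Finite G] in
theorem X_comm_E {x y : G} (hx : x ∈ D.X) (hy : y ∈ D.E) : Commute x y := by
  obtain ⟨k, -, rfl⟩ := D.exists_of_mem_E hy
  exact D.X_comm hx k

theorem P_split {s : G} (hs : s ∈ (D.P : Subgroup G)) :
    ∃ e ∈ D.E, ∃ u ∈ (D.P : Subgroup G) ⊓ D.X, s = e * u := by
  obtain ⟨e, he, b, hb, rfl⟩ := D.split fun y hy => D.P_centralizes hs y hy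
  rcases D.complement hb with h | h
  · refine ⟨e, he, b, ⟨?_, h⟩, rfl⟩
    have := mul_mem (inv_mem (D.le_P he)) hs
    rwa [inv_mul_cancel_left] at this
  · have he' : e * D.t ∈ D.E := mul_mem he D.t_mem_E
    have e1 : e * b = e * D.t * (D.t * b) := by
      rw [← mul_assoc, mul_assoc e, D.t_sq, mul_one]
    refine ⟨e * D.t, he', D.t * b, ⟨?_, h⟩, e1⟩
    have := mul_mem (inv_mem (D.le_P he')) hs
    rwa [e1, inv_mul_cancel_left] at this

theorem strongly_closed : Cfsg.IsStronglyClosed D.E (D.P : Subgroup G) := by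
  refine ⟨D.le_P, fun x hx g hg => ?_⟩
  by_cases hx1 : x = 1
  · simp [hx1, one_mem]
  obtain ⟨h, rfl⟩ := isConj_iff.mp (D.isConj_of_mem_E hx hx1)
  rw [show g * (h * D.t * h⁻¹) * g⁻¹ = g * h * D.t * (g * h)⁻¹ by group] at hg ⊢
  exact D.mem_E_of_conj hg

/-- A conjugate of the Sylow subgroup contains only one conjugate of `E`. -/
theorem mem_N_of_conj {a : G} (h : ∀ y ∈ D.E, a * y * a⁻¹ ∈ (D.P : Subgroup G)) : a ∈ D.N := by
  have hsub : D.E ≤ D.E.comap (MulAut.conj a).toMonoidHom := fun y hy =>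
    D.strongly_closed.2 y hy a (h y hy)
  have heq : D.E.map (MulAut.conj a).toMonoidHom = D.E :=
    eq_of_le_of_card_ge (map_le_iff_le_comap.mpr hsub)
      (by rw [card_map_of_injective (MulAut.conj a).injective])
  show a ∈ normalizer (D.E : Set G)
  rw [mem_normalizer_iff]
  intro y
  refine ⟨fun hy => hsub hy, fun hy => ?_⟩
  rw [← heq] at hy
  obtain ⟨w, hw, hwy⟩ := hy
  exact (MulAut.conj a).injective hwy ▸ hw

theorem control {x g : G} (hx : x ∈ (D.P : Subgroup G)) (hg : g * x * g⁻¹ ∈ (D.P : Subgroup G)) :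
    ∃ n ∈ D.N, n * x * n⁻¹ = g * x * g⁻¹ := by
  haveI : Fact (Nat.Prime 2) := ⟨Nat.prime_two⟩
  set Cx := Subgroup.centralizer ({x} : Set G)
  have hE : D.E ≤ Cx := fun y hy =>
    mem_centralizer_singleton_iff.mpr (D.P_centralizes hx y hy).eq.symm
  set E' := D.E.map (MulAut.conj g⁻¹).toMonoidHom
  have hE' : E' ≤ Cx := by
    rintro _ ⟨y, hy, rfl⟩
    refine mem_centralizer_singleton_iff.mpr ?_
    show g⁻¹ * y * g⁻¹⁻¹ * x = x * (g⁻¹ * y * g⁻¹⁻¹)
    calc g⁻¹ * y * g⁻¹⁻¹ * x = g⁻¹ * (y * (g * x * g⁻¹)) * g := by group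
      _ = _ := by rw [← (D.P_centralizes hg y hy).eq]; group
  have hp : IsPGroup 2 D.E := D.P.isPGroup'.to_le D.le_P
  obtain ⟨R1, hR1⟩ := (hp.of_equiv (subgroupOfEquivOfLe hE).symm).exists_le_sylow
  obtain ⟨R2, hR2⟩ := ((hp.map (MulAut.conj g⁻¹).toMonoidHom).of_equiv
    (subgroupOfEquivOfLe hE').symm).exists_le_sylow
  obtain ⟨c, hc⟩ := MulAction.exists_smul_eq Cx R2 R1
  obtain ⟨P', hP'⟩ := (R1.isPGroup'.map Cx.subtype).exists_le_sylow
  obtain ⟨a, ha⟩ := MulAction.exists_smul_eq G P' D.P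
  have hmem : ∀ y : Cx, y ∈ (R1 : Subgroup Cx) → a * (y : G) * a⁻¹ ∈ (D.P : Subgroup G) := by
    intro y hy
    rw [← ha, Sylow.coe_subgroup_smul]
    exact ⟨y, hP' ⟨y, hy, rfl⟩, by simp⟩
  have ha1 : a ∈ D.N := D.mem_N_of_conj fun y hy => hmem ⟨y, hE hy⟩ (hR1 hy)
  have ha2 : a * (c : G) * g⁻¹ ∈ D.N := by
    refine D.mem_N_of_conj fun y hy => ?_
    have hy' : g⁻¹ * y * g⁻¹⁻¹ ∈ E' := ⟨y, hy, rfl⟩
    have h1 : c * ⟨_, hE' hy'⟩ * c⁻¹ ∈ (R1 : Subgroup Cx) := by
      rw [← hc, Sylow.coe_subgroup_smul]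
      exact ⟨⟨_, hE' hy'⟩, hR2 hy', by simp⟩
    have h2 := hmem _ h1
    simp only [Subgroup.coe_mul, Subgroup.coe_inv] at h2
    convert h2 using 1
    group
  refine ⟨(a * (c : G) * g⁻¹)⁻¹ * a, mul_mem (inv_mem ha2) ha1, ?_⟩
  have hcx : (c : G) * x = x * (c : G) := mem_centralizer_singleton_iff.mp c.2
  calc (a * (c : G) * g⁻¹)⁻¹ * a * x * ((a * (c : G) * g⁻¹)⁻¹ * a)⁻¹
      = g * ((c : G)⁻¹ * (x * (c : G))) * g⁻¹ := by group
    _ = _ := by rw [← hcx, inv_mul_cancel_left]

theorem scPair : CfsgLib.Goldschmidt.SCPair D.P D.E ((D.P : Subgroup G) ⊓ D.X) := by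
  refine ⟨D.strongly_closed, ⟨inf_le_left, fun u hu g hg => ?_⟩,
    fun a ha b hb => (D.X_comm_E hb.2 ha).eq.symm, ?_⟩
  · obtain ⟨n, hn, he⟩ := D.control hu.1 hg
    exact ⟨hg, he ▸ D.X_conj hu.2 hn⟩
  · rw [eq_bot_iff]
    rintro x ⟨hxE, -, hxX⟩
    exact mem_bot.mpr (D.E_inf_X hxE hxX)

/-- The odd core centralises the normal closure. -/
theorem oddCore_comm {o : G} (ho : o ∈ Cfsg.oddCore G) : ∀ y ∈ D.Nc, Commute o y := by
  haveI : Fact (Nat.Prime 2) := ⟨Nat.prime_two⟩
  set O := Cfsg.oddCore G with hO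
  haveI : O.Normal := by
    have := CfsgLib.Cores.pPrimeCore_characteristic (G := G) 2
    exact inferInstanceAs (Cfsg.pPrimeCore 2 G).Normal
  have hOodd : Odd (Nat.card O) := CfsgLib.Cores.odd_card_oddCore
  have hzero : ∀ k, D.ι k ∈ O → k = 1 := by
    intro k hk
    by_contra hne
    have h15 : k ^ 15 = 1 := orderOf_dvd_iff_pow_eq_one.mp (JankoExt.model5.odd_dvd _
      (orderOf_dvd_natCard k) (hOodd.of_dvd_nat
        ((orderOf_injective D.ι D.inj k) ▸ O.orderOf_dvd_natCard hk)))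
    obtain ⟨c, hc⟩ := JankoExt.model5.odd_escape k h15 hne
    have key : ∀ l, D.ι l ∈ O → l ≠ 1 → l ^ 2 = 1 → False := fun l hl hl1 hl2 => by
      have h1 := O.orderOf_dvd_natCard hl
      rw [orderOf_eq_prime (p := 2) (by rw [← map_pow, hl2, map_one])
        (fun e => hl1 (D.inj (e.trans (map_one D.ι).symm)))] at h1
      rw [Nat.odd_iff] at hOodd
      omega
    have hcm : D.ι (c * k * c⁻¹) ∈ O := by
      rw [map_mul, map_mul, map_inv]; exact Normal.conj_mem inferInstance _ hk _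
    rcases hc with ⟨h1, h2⟩ | ⟨h1, h2⟩
    · exact key _ (by rw [map_mul]; exact mul_mem hk hcm) h1 h2
    · exact key _ (by rw [map_mul, map_mul]; exact mul_mem (mul_mem hk hk) hcm) h1 h2
  have hct : ∀ c ∈ O, Commute c D.t → ∀ y ∈ D.E, Commute c y := by
    intro c hc hct y hy
    obtain ⟨k, -, rfl⟩ := D.exists_of_mem_E hy
    obtain ⟨l, hl⟩ := D.conj_range hct k
    have hmem : D.ι (l * k⁻¹) ∈ O := by
      rw [map_mul, map_inv, hl, show c * D.ι k * c⁻¹ * (D.ι k)⁻¹ =
        c * (D.ι k * c⁻¹ * (D.ι k)⁻¹) by group]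
      exact mul_mem hc (Normal.conj_mem inferInstance _ (inv_mem hc) _)
    rw [mul_inv_eq_one.mp (hzero _ hmem)] at hl
    exact mul_inv_eq_iff_eq_mul.mp hl.symm
  set x := D.t
  set y := D.ι vM
  have hxy : Commute x y := (D.comm_t vM).symm
  have hxE : x ∈ D.E := D.t_mem_E
  have hyE : y ∈ D.E := (D.mem_E vM).mpr rfl
  set A := zpowers x ⊔ zpowers y
  have hfix : ∀ a ∈ D.E, a ≠ 1 → O ⊓ centralizer ({a} : Set G) ≤ O ⊓ centralizer (A : Set G) := by
    intro a ha ha1 c hc
    obtain ⟨hcO, hca⟩ := hc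
    refine ⟨hcO, ?_⟩
    obtain ⟨k, hk, rfl⟩ := D.exists_of_mem_E ha
    obtain ⟨n, hn, hne⟩ := D.transitive hk fun h => ha1 (by rw [h, map_one])
    have hcE : ∀ z ∈ D.E, Commute c z := by
      intro z hz
      have h1 : Commute (n⁻¹ * c * n) D.t := by
        show n⁻¹ * c * n * D.t = D.t * (n⁻¹ * c * n)
        have := mem_centralizer_singleton_iff.mp hca
        rw [← hne] at this
        calc n⁻¹ * c * n * D.t = n⁻¹ * (c * (n * D.t * n⁻¹)) * n := by group
          _ = _ := by rw [this]; group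
      have h2 := hct _ (by simpa using Normal.conj_mem inferInstance c hcO n⁻¹) h1 (n⁻¹ * z * n)
        ((mem_normalizer_iff.mp hn _).mpr (by rwa [show n * (n⁻¹ * z * n) * n⁻¹ = z by group]))
      calc c * z = n * (n⁻¹ * c * n * (n⁻¹ * z * n)) * n⁻¹ := by group
        _ = _ := by rw [h2.eq]; group
    show c ∈ centralizer (A : Set G)
    rw [mem_centralizer_iff]
    intro z hz
    have hzE : z ∈ D.E := sup_le (zpowers_le.mpr hxE) (zpowers_le.mpr hyE) hz
    exact (hcE z hzE).eq.symm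
  have hN : ∀ a : G, a ∈ normalizer (O : Set G) := fun a => by
    rw [normalizer_eq_top]; trivial
  have h := CfsgLib.Cores.brauerWielandt (p := 2) (x := x) (y := y) (by rw [sq, D.t_sq])
    (by rw [sq, D.E_sq hyE]) hxy (Nat.coprime_two_right.mpr hOodd) (hN x) (hN y)
  have hline : ∀ i : Option (Fin 2),
      Nat.card ↥(O ⊓ centralizer ({CfsgLib.Cores.lineGen x y i} : Set G)) =
        Nat.card ↥(O ⊓ centralizer (A : Set G)) := by
    intro i
    have hmemA : CfsgLib.Cores.lineGen x y i ∈ A := CfsgLib.Cores.lineGen_mem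
      (mem_sup_left (mem_zpowers x)) (mem_sup_right (mem_zpowers y)) i
    refine Nat.card_congr (MulEquiv.subgroupCongr (le_antisymm ?_ ?_)).toEquiv
    · refine hfix _ (sup_le (zpowers_le.mpr hxE) (zpowers_le.mpr hyE) hmemA) ?_
      match i with
      | none => exact D.t_ne
      | some j =>
        show y * x ^ (j : ℕ) ≠ 1
        fin_cases j
        · simpa using fun h : y = 1 => tM_facts.2.2.1 (D.inj (h.trans (map_one D.ι).symm))
        · simp only [pow_one]
          intro h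
          apply tM_facts.2.2.2.1
          refine D.inj ?_
          rw [D.ι_t]
          calc y = y * (x * x) := by rw [D.t_sq, mul_one]
            _ = x := by rw [← mul_assoc, h, one_mul]
    · exact inf_le_inf_left _ (centralizer_le (Set.singleton_subset_iff.mpr hmemA))
  rw [Finset.prod_congr rfl fun i _ => hline i, Finset.prod_const, Finset.card_univ,
    Fintype.card_option, Fintype.card_fin, pow_succ' _ 2] at h
  have hall : O ⊓ centralizer (A : Set G) = O :=
    eq_of_le_of_card_ge inf_le_left (Nat.eq_of_mul_eq_mul_right (pow_pos Nat.card_pos 2) h).le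
  intro w hw
  induction hw using closure_induction with
  | mem w hw =>
    obtain ⟨z, hz, hconj⟩ := Group.mem_conjugatesOfSet_iff.mp hw
    rw [Set.mem_singleton_iff] at hz
    subst hz
    obtain ⟨g, rfl⟩ := isConj_iff.mp hconj
    have hm : g⁻¹ * o * g ∈ O ⊓ centralizer (A : Set G) := by
      rw [hall]; simpa using Normal.conj_mem inferInstance o ho g⁻¹
    have := mem_centralizer_iff.mp hm.2 x (mem_sup_left (mem_zpowers x))
    show o * (g * x * g⁻¹) = g * x * g⁻¹ * o
    calc o * (g * x * g⁻¹) = g * ((g⁻¹ * o * g) * x) * g⁻¹ := by group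
      _ = _ := by rw [← this]; group
  | one => exact Commute.one_right o
  | mul a b _ _ ha hb => exact ha.mul_right hb
  | inv a _ ha => exact ha.inv_right

theorem comm_of_mem {u : G} (hu : u ∈ (D.P : Subgroup G) ⊓ D.X) (huN : u ∈ D.Nc) :
    ∀ y ∈ D.Nc, Commute u y := by
  intro y hy
  induction hy using closure_induction with
  | mem w hw =>
    obtain ⟨z, hz, hconj⟩ := Group.mem_conjugatesOfSet_iff.mp hw
    rw [Set.mem_singleton_iff] at hz
    subst hz
    obtain ⟨g, rfl⟩ := isConj_iff.mp hconj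
    set w := g * D.t * g⁻¹
    have hwN : w ∈ D.Nc := D.conj_t_mem g
    have ho : ⁅w, u⁆ ∈ Cfsg.oddCore G :=
      CfsgLib.Goldschmidt.commutes G D.P D.E _ D.scPair w
        (CfsgLib.Goldschmidt.mem_conjSet_of_mem_conjugatesOfSet
          (Group.mem_conjugatesOfSet_iff.mpr ⟨D.t, D.t_mem_E, isConj_iff.mpr ⟨g, rfl⟩⟩)) u
        (CfsgLib.Goldschmidt.mem_conjSet_of_mem_conjugatesOfSet
          (Group.mem_conjugatesOfSet_iff.mpr ⟨u, hu, IsConj.refl u⟩))
    have hw2 : w * w = 1 := by rw [conj_mul, D.t_sq, mul_one, mul_inv_cancel]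
    have hwi : w⁻¹ = w := inv_eq_of_mul_eq_one_left hw2
    set o := ⁅w, u⁆ with hodef
    have hwo : Commute o w := D.oddCore_comm ho w hwN
    have e : w * u * w = o * u := by
      rw [hodef, commutatorElement_def, hwi, inv_mul_cancel_right]
    have hoo : o * o = 1 := by
      have h2 : w * (w * u * w) * w = u := by
        calc w * (w * u * w) * w = (w * w) * u * (w * w) := by group
          _ = u := by rw [hw2, one_mul, mul_one]
      have h3 : w * (o * u) * w = o * (o * u) := by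
        calc w * (o * u) * w = (w * o) * u * w := by group
          _ = o * (w * u * w) := by rw [← hwo.eq]; group
          _ = o * (o * u) := by rw [e]
      rw [e, h3, ← mul_assoc] at h2
      exact mul_eq_right.mp h2
    have ho1 : o = 1 := by
      by_contra hne
      have h1 := (Cfsg.oddCore G).orderOf_dvd_natCard ho
      rw [orderOf_eq_prime (p := 2) (by rw [sq, hoo]) hne] at h1
      have := CfsgLib.Cores.odd_card_oddCore (G := G)
      rw [Nat.odd_iff] at this
      omega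
    rw [hodef, commutatorElement_eq_one_iff_mul_comm] at ho1
    exact ho1.symm
  | one => exact Commute.one_right u
  | mul a b _ _ ha hb => exact ha.mul_right hb
  | inv a _ ha => exact ha.inv_right

theorem P_inf_Nc : (D.P : Subgroup G) ⊓ D.Nc = D.E := by
  haveI : Fact (Nat.Prime 2) := ⟨Nat.prime_two⟩
  refine le_antisymm (fun s hs => ?_) (le_inf D.le_P (D.E_le_range.trans D.range_le))
  obtain ⟨hsP, hsN⟩ := hs
  obtain ⟨e, he, u, hu, rfl⟩ := D.P_split hsP
  have heN : e ∈ D.Nc := D.range_le (D.E_le_range he)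
  have huN : u ∈ D.Nc := by
    have := mul_mem (inv_mem heN) hsN
    rwa [inv_mul_cancel_left] at this
  set Sy : Subgroup D.Nc := (D.P : Subgroup G).subgroupOf D.Nc with hSy
  have hidx : ¬2 ∣ Sy.index := by
    have := CfsgLib.Fusion.CentralLift.not_dvd_relIndex_inf (p := 2) (A := D.Nc) D.P.not_dvd_index
    rwa [inf_relIndex_right] at this
  have hcen := fun (v : D.Nc) (hv : (v : G) ∈ (D.P : Subgroup G) ⊓ D.X) (g : D.Nc) =>
    (D.comm_of_mem hv v.2 g g.2).eq
  have key := CfsgLib.Fusion.CentralLift.closure_inf_le (p := 2) (Sy := Sy)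
    (K := ((D.P : Subgroup G) ⊓ D.X).subgroupOf D.Nc) (U := D.E.subgroupOf D.Nc)
    (D.P.isPGroup'.comap_of_injective D.Nc.subtype D.Nc.subtype_injective) hidx
    (comap_mono inf_le_left) (comap_mono D.le_P)
    (fun r hr => by
      obtain ⟨e', he', u', hu', h'⟩ := D.P_split hr
      have he'N : e' ∈ D.Nc := D.range_le (D.E_le_range he')
      have hu'N : u' ∈ D.Nc := by
        have := mul_mem (inv_mem he'N) r.2
        rwa [show (r : G) = e' * u' from h', inv_mul_cancel_left] at this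
      exact ⟨⟨u', hu'N⟩, hu', ⟨e', he'N⟩, he', Subtype.ext (h'.trans (D.X_comm_E hu'.2 he').eq.symm)⟩)
    (fun r hr v hv => by
      show (r : G) * v * (r : G)⁻¹ ∈ D.E
      exact D.strongly_closed.2 _ hv _ (mul_mem (mul_mem hr (D.le_P hv)) (inv_mem hr)))
    (fun a ha c _ => Subtype.ext (hcen a ha c))
    (fun g a ha => by
      show (g : G) * a * (g : G)⁻¹ ∈ (D.P : Subgroup G) ⊓ D.X
      rw [← hcen a ha g, mul_inv_cancel_right]; exact ha)
    (fun g a ha => by
      show (g : G) * a * (g : G)⁻¹ * (a : G)⁻¹ ∈ D.E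
      rw [← hcen a ha g, mul_inv_cancel_right, mul_inv_cancel]; exact one_mem _)
    (fun g v hv hg => D.strongly_closed.2 _ hv _ hg)
    (k := ⟨u, huN⟩) hu ?_
  · have : u = 1 := D.E_inf_X key hu.2
    rw [this, mul_one]; exact he
  · have hle : D.Nc ≤ (closure ({x : D.Nc | (orderOf x).Coprime 2} ∪
        {x : D.Nc | ∃ g : D.Nc, ∃ v ∈ D.E.subgroupOf D.Nc, x = g * v * g⁻¹})).map D.Nc.subtype := by
      refine (closure_le _).mpr fun w hw => ?_
      obtain ⟨z, hz, hconj⟩ := Group.mem_conjugatesOfSet_iff.mp hw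
      rw [Set.mem_singleton_iff] at hz
      subst hz
      obtain ⟨g, rfl⟩ := isConj_iff.mp hconj
      set wN : D.Nc := ⟨g * D.t * g⁻¹, D.conj_t_mem g⟩
      have hp : IsPGroup 2 (zpowers wN) := CfsgLib.LocalEven.zpowers_pow_prime_isPGroup
        (Subtype.ext (by
          show (g * D.t * g⁻¹) ^ 2 = 1
          rw [sq, conj_mul, D.t_sq, mul_one, mul_inv_cancel]))
      obtain ⟨R, hR⟩ := hp.exists_le_sylow
      let SP : Sylow 2 D.Nc := (D.P.isPGroup'.comap_of_injective D.Nc.subtype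
        D.Nc.subtype_injective).toSylow hidx
      obtain ⟨c, hc⟩ := MulAction.exists_smul_eq D.Nc R SP
      have h1 : c * wN * c⁻¹ ∈ Sy := by
        show c * wN * c⁻¹ ∈ (SP : Subgroup D.Nc)
        rw [← hc, Sylow.coe_subgroup_smul]
        exact ⟨wN, hR (mem_zpowers wN), by simp⟩
      have h2 : ((c * wN * c⁻¹ : D.Nc) : G) ∈ D.E := by
        have h1' : (c : G) * (g * D.t * g⁻¹) * (c : G)⁻¹ ∈ (D.P : Subgroup G) := h1
        rw [show (c : G) * (g * D.t * g⁻¹) * (c : G)⁻¹ = c * g * D.t * ((c : G) * g)⁻¹ by group] at h1'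
        show (c : G) * (g * D.t * g⁻¹) * (c : G)⁻¹ ∈ D.E
        rw [show (c : G) * (g * D.t * g⁻¹) * (c : G)⁻¹ = c * g * D.t * ((c : G) * g)⁻¹ by group]
        exact D.mem_E_of_conj h1'
      exact ⟨wN, subset_closure (Or.inr ⟨c⁻¹, c * wN * c⁻¹, mem_subgroupOf.mpr h2, by group⟩), rfl⟩
    obtain ⟨k, hk, hku⟩ := hle huN
    exact (Subtype.ext hku : k = ⟨u, huN⟩) ▸ hk

/-- The part of the complement inside the normal closure. -/
def D0 : Subgroup G := D.X ⊓ D.Nc

theorem odd_D0 : Odd (Nat.card D.D0) := by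
  haveI : Fact (Nat.Prime 2) := ⟨Nat.prime_two⟩
  rw [← Nat.not_even_iff_odd, even_iff_two_dvd]
  intro h
  obtain ⟨j, hj⟩ := exists_prime_orderOf_dvd_card' (G := D.D0) 2 h
  rw [← orderOf_coe] at hj
  obtain ⟨hjX, hjN⟩ : (j : G) ∈ D.X ∧ (j : G) ∈ D.Nc := j.2
  have hp : IsPGroup 2 (zpowers (j : G)) :=
    CfsgLib.LocalEven.zpowers_pow_prime_isPGroup (by rw [← hj]; exact pow_orderOf_eq_one _)
  obtain ⟨c, hc, hcP⟩ := D.exists_conj_le hp (fun x hx => by
    obtain ⟨i, rfl⟩ := mem_zpowers_iff.mp hx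
    exact (D.X_comm_t hjX).zpow_left i)
  have h1 : c * j * c⁻¹ ∈ D.E := D.P_inf_Nc ▸
    ⟨hcP _ (mem_zpowers _), Normal.conj_mem inferInstance _ hjN c⟩
  have h2 := D.E_inf_X h1 (D.X_conj_C hc hjX)
  rw [conj_eq_one_iff] at h2
  rw [h2, orderOf_one] at hj
  omega

/-- The subgroup of the normal closure normalising the odd part. -/
def M : Subgroup G := D.Nc ⊓ normalizer (D.D0 : Set G)

theorem mem_normalizer_of_conj {g : G} {H : Subgroup G}
    (h : ∀ x ∈ H, g * x * g⁻¹ ∈ H) : g ∈ normalizer (H : Set G) := by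
  have heq : H.map (MulAut.conj g).toMonoidHom = H :=
    eq_of_le_of_card_ge (map_le_iff_le_comap.mpr h)
      (by rw [card_map_of_injective (MulAut.conj g).injective])
  rw [mem_normalizer_iff]
  intro y
  refine ⟨fun hy => h y hy, fun hy => ?_⟩
  rw [← heq] at hy
  obtain ⟨w, hw, hwy⟩ := hy
  exact (MulAut.conj g).injective hwy ▸ hw

theorem C_mem_M {c : G} (hcN : c ∈ D.Nc) (hc : Commute c D.t) : c ∈ D.M :=
  ⟨hcN, mem_normalizer_of_conj fun _ hx =>
    ⟨D.X_conj_C hc hx.1, Normal.conj_mem inferInstance _ hx.2 c⟩⟩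

theorem N_mem_M {n : G} (hnN : n ∈ D.Nc) (hn : n ∈ D.N) : n ∈ D.M :=
  ⟨hnN, mem_normalizer_of_conj fun _ hx =>
    ⟨D.X_conj hx.1 hn, Normal.conj_mem inferInstance _ hx.2 n⟩⟩

theorem D0_le_M : D.D0 ≤ D.M := le_inf inf_le_right le_normalizer

theorem E_le_M : D.E ≤ D.M := fun _ hy => D.C_mem_M (D.range_le (D.E_le_range hy))
  (D.E_comm hy D.t_mem_E)

/-- A moving element of `M`. -/
theorem exists_moved : ∃ g ∈ D.M, g * D.t * g⁻¹ ∈ D.E ∧ g * D.t * g⁻¹ ≠ D.t := by
  obtain ⟨n, hn, hne⟩ := D.transitive (k := vM) rfl tM_facts.2.2.1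
  set z := n * D.ι zM * n⁻¹
  have hzN : z ∈ D.N := mul_mem (mul_mem hn D.z_mem) (inv_mem hn)
  have hzNc : z ∈ D.Nc := Normal.conj_mem inferInstance _ (D.range_le ⟨zM, rfl⟩) n
  refine ⟨z, D.N_mem_M hzNc hzN, (mem_normalizer_iff.mp hzN _).mp D.t_mem_E, fun h => ?_⟩
  obtain ⟨k, hk, hke⟩ := D.exists_of_mem_E (show n⁻¹ * D.t * n ∈ D.E from
    (mem_normalizer_iff.mp hn _).mpr (by
      rw [show n * (n⁻¹ * D.t * n) * n⁻¹ = D.t by group]; exact D.t_mem_E))
  have hkz : zM * k * zM⁻¹ = k := D.inj (by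
    rw [map_mul, map_mul, map_inv, hke]
    calc D.ι zM * (n⁻¹ * D.t * n) * (D.ι zM)⁻¹ = n⁻¹ * (z * D.t * z⁻¹) * n := by
          simp only [z]; group
      _ = _ := by rw [h])
  have hback : D.t = n * D.ι k * n⁻¹ := by rw [hke]; group
  rcases z_fixed k hk hkz with rfl | rfl
  · exact D.t_ne (by rw [hback, map_one, mul_one, mul_inv_cancel])
  · rw [D.ι_t, hne, ← D.ι_t] at hback
    exact tM_facts.2.2.2.1 (D.inj hback).symm

/-- The quotient of `M` by the odd part. -/
theorem section_facts : ∃ (Q : Type u) (_ : Group Q) (_ : Finite Q) (π : D.M →* Q),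
    Function.Surjective π ∧ π.ker = D.D0.subgroupOf D.M ∧ IsSimpleGroup Q ∧
    Nat.card Q = 175560 ∧
    (∀ w : D.M, (w : G) * w = 1 → (w : G) ≠ 1 → ∃ m ∈ D.M, m * D.t * m⁻¹ = w) ∧
    Nat.card ((Subgroup.centralizer ({D.t} : Set G)).subgroupOf D.M |>.map π) = 120 := by
  classical
  haveI : Fact (Nat.Prime 2) := ⟨Nat.prime_two⟩
  set D' := D.D0.subgroupOf D.M with hD'
  haveI : D'.Normal := normal_subgroupOf_iff_le_normalizer D.D0_le_M |>.mpr inf_le_right
  set π := QuotientGroup.mk' D'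
  have hsurj : Function.Surjective π := QuotientGroup.mk'_surjective D'
  let j : Cmod →* D.M := D.ι.codRestrict D.M fun k =>
    D.C_mem_M (D.range_le ⟨k, rfl⟩) (D.comm_t k)
  have hodd := D.odd_D0
  have hπ : ∀ a : D.M, π a = 1 ↔ (a : G) ∈ D.D0 := fun a =>
    (QuotientGroup.eq_one_iff a).trans mem_subgroupOf
  have hinj : Function.Injective (π.comp j) := by
    rw [injective_iff_map_eq_one]
    intro k hk
    exact D.range_inf_X ((hπ (j k)).mp hk).1
  have hlift : ∀ a : D.M, Commute (π a) (π (j tM)) → Commute (a : G) D.t := by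
    intro a ha
    have h1 : π (a * j tM * a⁻¹ * (j tM)⁻¹) = 1 := by
      simp only [map_mul, map_inv, ha.eq, mul_inv_cancel_right, mul_inv_cancel]
    have h2 : (a : G) * D.t * (a : G)⁻¹ * D.t⁻¹ ∈ D.D0 := by
      have := (hπ _).mp h1
      simpa [j, D.ι_t] using this
    set d := (a : G) * D.t * (a : G)⁻¹ * D.t⁻¹
    have hd : Commute d D.t := D.X_comm_t h2.1
    have e : (a : G) * D.t * (a : G)⁻¹ = d * D.t := by simp [d]
    have hd2 : d * d = 1 := by
      have : (d * D.t) * (d * D.t) = 1 := by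
        rw [← e, conj_mul, D.t_sq, mul_one, mul_inv_cancel]
      rwa [Commute.mul_mul_mul_comm hd.symm, D.t_sq, mul_one] at this
    have hd1 : d = 1 := by
      by_contra hne
      have h := D.D0.orderOf_dvd_natCard h2
      rw [orderOf_eq_prime (p := 2) (by rw [sq, hd2]) hne] at h
      rw [Nat.odd_iff] at hodd
      omega
    rw [hd1, one_mul] at e
    exact mul_inv_eq_iff_eq_mul.mp e
  -- the Sylow subgroup of the section
  have hE : (D.P : Subgroup G).subgroupOf D.M = D.E.subgroupOf D.M := by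
    refine le_antisymm (fun a ha => ?_) (comap_mono D.le_P)
    exact mem_subgroupOf.mpr (D.P_inf_Nc ▸ ⟨ha, a.2.1⟩)
  have hidxM : ¬2 ∣ (D.E.subgroupOf D.M).index := by
    intro h
    obtain ⟨R⟩ : Nonempty (Sylow 2 D.M) := inferInstance
    have hR : Nat.card (R : Subgroup D.M) ≤ 8 := by
      obtain ⟨R', hR'⟩ := (R.isPGroup'.map D.M.subtype).exists_le_sylow
      obtain ⟨c, hc⟩ := MulAction.exists_smul_eq G R' D.P
      have hle : ((R : Subgroup D.M).map D.M.subtype).map (MulAut.conj c).toMonoidHom ≤ D.E := by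
        rw [← D.P_inf_Nc]
        rintro _ ⟨w, ⟨w', hw', rfl⟩, rfl⟩
        refine ⟨?_, Normal.conj_mem inferInstance _ w'.2.1 c⟩
        rw [← hc, Sylow.coe_subgroup_smul]
        exact ⟨_, hR' ⟨w', hw', rfl⟩, by simp⟩
      have := Nat.le_of_dvd Nat.card_pos (card_dvd_of_le hle)
      rwa [card_map_of_injective (MulAut.conj c).injective,
        card_map_of_injective D.M.subtype_injective, D.card_E] at this
    have h8 : Nat.card (D.E.subgroupOf D.M) = 8 := by
      rw [Nat.card_congr (subgroupOfEquivOfLe D.E_le_M).toEquiv, D.card_E]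
    have hdvd : 2 ^ 4 ∣ Nat.card D.M := by
      rw [← (D.E.subgroupOf D.M).card_mul_index, h8, show (2 : ℕ) ^ 4 = 8 * 2 by norm_num]
      exact Nat.mul_dvd_mul_left 8 h
    have := Nat.le_of_dvd Nat.card_pos (R.pow_dvd_card_of_pow_dvd_card hdvd)
    omega
  have hp : IsPGroup 2 (D.E.subgroupOf D.M) :=
    (D.P.isPGroup'.to_le D.le_P).of_equiv (subgroupOfEquivOfLe D.E_le_M).symm
  have htc : Cfsg.IsTwoCentralInvolution (π (j tM)) := by
    refine ⟨orderOf_eq_prime (by rw [← map_pow, ← map_pow, sq, tM_facts.2.1, map_one, map_one])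
      (fun h => tM_facts.1 (hinj (h.trans (map_one _).symm))),
      (hp.toSylow hidxM).mapSurjective hsurj, ⟨j tM, ?_, rfl⟩, ?_⟩
    · show D.ι tM ∈ D.E
      rw [D.ι_t]; exact D.t_mem_E
    · rintro _ ⟨a, ha, rfl⟩
      rw [← map_mul, ← map_mul]
      congr 1
      apply Subtype.ext
      show (a : G) * D.ι tM = D.ι tM * a
      rw [D.ι_t]
      exact D.E_comm ha D.t_mem_E
  obtain ⟨g, hgM, hgE, hgne⟩ := D.exists_moved
  let C : JankoExt.Cent (D.M ⧸ D') JankoExt.model5 :=
    { t := π (j tM), em := π.comp j, inj := hinj, em_t := rfl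
      surj := fun a ha => by
        obtain ⟨a, rfl⟩ := hsurj a
        obtain ⟨k, x, hx, hkx⟩ := D.C_split (hlift a ha)
        have hxN : x ∈ D.Nc := by
          have := mul_mem (inv_mem (D.range_le ⟨k, rfl⟩)) a.2.1
          rwa [hkx, inv_mul_cancel_left] at this
        refine ⟨k, ?_⟩
        show π (j k) = π a
        refine QuotientGroup.eq.mpr (mem_subgroupOf.mpr ?_)
        show (D.ι k)⁻¹ * (a : G) ∈ D.D0
        rw [hkx, inv_mul_cancel_left]
        exact ⟨hx, hxN⟩
      two_central := htc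
      moved := by
        refine ⟨π ⟨g, hgM⟩, ?_, ?_⟩
        · rw [← map_inv, ← map_mul, ← map_mul]
          refine Commute.map ?_ π
          apply Subtype.ext
          show D.ι tM * (g * D.ι tM * g⁻¹) = g * D.ι tM * g⁻¹ * D.ι tM
          rw [D.ι_t]
          exact D.E_comm D.t_mem_E hgE
        · intro h
          have h' : Commute (π ⟨g, hgM⟩) (π (j tM)) := mul_inv_eq_iff_eq_mul.mp h
          exact hgne (mul_inv_eq_iff_eq_mul.mpr (hlift _ h').eq) }
  obtain ⟨hs, hcard⟩ := JankoExt.case_five C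
  refine ⟨D.M ⧸ D', inferInstance, inferInstance, π, hsurj, QuotientGroup.ker_mk' D', hs, hcard,
    fun w hw hw1 => ?_, ?_⟩
  · have hw' : π w * π w = 1 := by
      rw [← map_mul, show w * w = 1 from Subtype.ext hw, map_one]
    have hw1' : π w ≠ 1 := fun h => by
      have h1 := D.D0.orderOf_dvd_natCard ((hπ w).mp h)
      rw [orderOf_eq_prime (p := 2) (by rw [sq]; exact hw) hw1] at h1
      rw [Nat.odd_iff] at hodd
      omega
    obtain ⟨c, hc⟩ := isConj_iff.mp (C.fusion hw' hw1')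
    obtain ⟨m, rfl⟩ := hsurj c
    refine ⟨m, m.2, ?_⟩
    set d : G := (m : G)⁻¹ * w * m * D.t⁻¹
    have hdm : π (m⁻¹ * w * m * (j tM)⁻¹) = 1 := by
      simp only [map_mul, map_inv, ← hc]
      show (π m)⁻¹ * (π m * π (j tM) * (π m)⁻¹) * π m * (π (j tM))⁻¹ = 1
      group
    have hdD : d ∈ D.D0 := by
      have := (hπ _).mp hdm
      simpa [j, D.ι_t, d] using this
    have hd : Commute d D.t := D.X_comm_t hdD.1
    have e : (m : G)⁻¹ * w * m = d * D.t := by simp [d]
    have hd2 : d * d = 1 := by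
      have : (d * D.t) * (d * D.t) = 1 := by
        rw [← e]
        calc (m : G)⁻¹ * w * m * ((m : G)⁻¹ * w * m) = (m : G)⁻¹ * ((w : G) * w) * m := by group
          _ = 1 := by rw [hw]; group
      rwa [Commute.mul_mul_mul_comm hd.symm, D.t_sq, mul_one] at this
    have hd1 : d = 1 := by
      by_contra hne
      have h := D.D0.orderOf_dvd_natCard hdD
      rw [orderOf_eq_prime (p := 2) (by rw [sq, hd2]) hne] at h
      rw [Nat.odd_iff] at hodd
      omega
    rw [hd1, one_mul] at e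
    rw [← e]; group
  · have himg : (((Subgroup.centralizer ({D.t} : Set G)).subgroupOf D.M).map π) =
        (π.comp j).range := by
      apply le_antisymm
      · rintro _ ⟨a, ha, rfl⟩
        refine C.surj (π a) ?_
        show Commute (π a) (π (j tM))
        refine Commute.map (Subtype.ext ?_) π
        show (a : G) * D.ι tM = D.ι tM * a
        rw [D.ι_t]
        exact mem_centralizer_singleton_iff.mp ha
      · rintro _ ⟨k, rfl⟩
        exact ⟨j k, mem_centralizer_singleton_iff.mpr (D.comm_t k).eq, rfl⟩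
    rw [himg, ← Nat.card_congr (MonoidHom.ofInjective hinj).toEquiv, card_Cmod]

/-- The subgroup is everything. -/
theorem M_eq : D.M = D.Nc := by
  classical
  haveI : Fact (Nat.Prime 2) := ⟨Nat.prime_two⟩
  refine le_antisymm inf_le_left ?_
  by_contra hne
  obtain ⟨Q, _, _, π, hsurj, hker, hs, hcard, hfus, hC⟩ := D.section_facts
  haveI := hs
  set M' := D.M.subgroupOf D.Nc
  obtain ⟨u, hu, huM⟩ : ∃ u : D.Nc, orderOf u = 2 ∧ u ∉ M' := by
    by_contra hall
    push Not at hall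
    apply hne
    refine (closure_le _).mpr fun w hw => ?_
    obtain ⟨z, hz, hconj⟩ := Group.mem_conjugatesOfSet_iff.mp hw
    rw [Set.mem_singleton_iff] at hz
    subst hz
    obtain ⟨g, rfl⟩ := isConj_iff.mp hconj
    refine hall ⟨_, D.conj_t_mem g⟩ ?_
    rw [← orderOf_coe]
    exact (CfsgLib.Invol.orderOf_conj_eq g D.t).trans D.orderOf_t
  have htM : D.t ∈ D.M := D.E_le_M D.t_mem_E
  set tN : D.Nc := ⟨D.t, htM.1⟩
  have htM' : tN ∈ M' := htM
  have htN2 : orderOf tN = 2 := by rw [← orderOf_coe]; exact D.orderOf_t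
  have hSE : Cfsg.IsStronglyEmbedded M' := by
    refine ⟨fun h => huM (h ▸ mem_top u), ?_, fun g hg => ?_⟩
    · rw [even_iff_two_dvd]
      exact htN2 ▸ M'.orderOf_dvd_natCard htM'
    · rw [← Nat.not_even_iff_odd, even_iff_two_dvd]
      intro h
      obtain ⟨i, hi⟩ := exists_prime_orderOf_dvd_card' 2 h
      rw [← orderOf_coe] at hi
      obtain ⟨hiM, ⟨i', hi', hii⟩⟩ : ((i : D.Nc) ∈ M') ∧
          (i : D.Nc) ∈ M'.map (MulAut.conj g).toMonoidHom := i.2
      have hii' : g * i' * g⁻¹ = (i : D.Nc) := hii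
      have ho' : orderOf i' = 2 := by
        rw [← (CfsgLib.Invol.orderOf_conj_eq g i'), hii', hi]
      have hw : ∀ a : D.Nc, orderOf a = 2 → (a : G) * a = 1 ∧ (a : G) ≠ 1 := fun a ha => by
        rw [← orderOf_coe] at ha
        refine ⟨by rw [← sq, ← ha]; exact pow_orderOf_eq_one _, fun h => ?_⟩
        rw [h, orderOf_one] at ha
        omega
      obtain ⟨a, ha, hat⟩ := hfus ⟨_, hiM⟩ (hw _ hi).1 (hw _ hi).2
      obtain ⟨b, hb, hbt⟩ := hfus ⟨_, hi'⟩ (hw _ ho').1 (hw _ ho').2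
      have hgG : (g : G) * (i' : G) * (g : G)⁻¹ = ((i : D.Nc) : G) := congrArg Subtype.val hii'
      change a * D.t * a⁻¹ = ((i : D.Nc) : G) at hat
      change b * D.t * b⁻¹ = (i' : G) at hbt
      have hc : Commute (a⁻¹ * (g : G) * b) D.t := by
        refine mul_inv_eq_iff_eq_mul.mp ?_
        calc a⁻¹ * (g : G) * b * D.t * (a⁻¹ * (g : G) * b)⁻¹
            = a⁻¹ * ((g : G) * (b * D.t * b⁻¹) * (g : G)⁻¹) * a := by group
          _ = D.t := by rw [hbt, hgG, ← hat]; group
      have hcM := D.C_mem_M (mul_mem (mul_mem (inv_mem ha.1) g.2) hb.1) hc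
      apply hg
      show (g : G) ∈ D.M
      have := mul_mem (mul_mem ha hcM) (inv_mem hb)
      rwa [show a * (a⁻¹ * (g : G) * b) * b⁻¹ = (g : G) by group] at this
  set H := M' ⊓ M'.map (MulAut.conj u).toMonoidHom
  have hHodd : Odd (Nat.card H) := hSE.2.2 u huM
  set H1 : Subgroup D.M := (H.map D.Nc.subtype).subgroupOf D.M
  set Hb := H1.map π
  have hHbodd : Odd (Nat.card Hb) := by
    refine hHodd.of_dvd_nat ((card_map_dvd _ _).trans ?_)
    rw [Nat.card_congr (subgroupOfEquivOfLe ?_).toEquiv, card_map_of_injective D.Nc.subtype_injective]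
    rintro _ ⟨h, hh, rfl⟩
    exact hh.1
  set Cb := ((Subgroup.centralizer ({D.t} : Set G)).subgroupOf D.M).map π with hCb
  -- every element is a product
  have hprod : ∀ q : Q, ∃ h ∈ Hb, ∃ c ∈ Cb, h * c = q := by
    intro q
    obtain ⟨m, rfl⟩ := hsurj q
    set mN : D.Nc := ⟨m, m.2.1⟩
    have hs : orderOf (mN * tN * mN⁻¹) = 2 := (CfsgLib.Invol.orderOf_conj_eq _ _).trans htN2
    have hmM : mN ∈ M' := m.2
    obtain ⟨d, hd, hdt⟩ := CfsgLib.Invol.stronglyEmbedded_transitive hSE hu huM hs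
      (mul_mem (mul_mem hmM htM') (inv_mem hmM)) htN2 htM'
    have hdM : (d : G) ∈ D.M := hd.1
    refine ⟨π ⟨d, hdM⟩⁻¹, ⟨⟨d, hdM⟩⁻¹, inv_mem ⟨d, hd, rfl⟩, rfl⟩, π (⟨d, hdM⟩ * m), ?_, ?_⟩
    · refine ⟨_, mem_centralizer_singleton_iff.mpr ?_, rfl⟩
      have h := congrArg Subtype.val hdt
      show (d : G) * m * D.t = D.t * ((d : G) * m)
      refine mul_inv_eq_iff_eq_mul.mp ?_
      calc (d : G) * m * D.t * ((d : G) * m)⁻¹ = (d : G) * ((m : G) * D.t * (m : G)⁻¹) * (d : G)⁻¹ := by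
            group
        _ = D.t := h
    · rw [← map_mul, inv_mul_cancel_left]
  refine not_odd_subgroup hcard hHbodd ?_
  have hset : ((Hb : Set Q) * (Cb : Set Q)) = Set.univ := by
    refine Set.eq_univ_of_forall fun q => ?_
    obtain ⟨h, hh, c, hc, e⟩ := hprod q
    exact ⟨h, hh, c, hc, e⟩
  have hm := CfsgLib.PGroup.card_setMul_mul_card_inf Hb Cb
  rw [hset, Nat.card_univ, hcard, hC] at hm
  exact ⟨Nat.card ↥(Hb ⊓ Cb), Nat.eq_of_mul_eq_mul_right (show 0 < 120 by norm_num)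
    (by rw [← hm]; ring)⟩

/-- The normal closure covers a simple group of order `175560` with central odd kernel. -/
theorem main : ∃ (Q : Type u) (_ : Group Q) (_ : Finite Q) (π : D.Nc →* Q),
    Function.Surjective π ∧ IsSimpleGroup Q ∧ Nat.card Q = 175560 ∧
    π.ker ≤ center D.Nc ∧ π.ker ≤ commutator D.Nc := by
  classical
  obtain ⟨Q, _, _, π, hsurj, hker, hs, hcard, -, -⟩ := D.section_facts
  haveI := hs
  let e : D.Nc ≃* D.M := MulEquiv.subgroupCongr D.M_eq.symm
  set ρ := π.comp e.toMonoidHom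
  have hρ : Function.Surjective ρ := hsurj.comp e.surjective
  have hk : ∀ a : D.Nc, ρ a = 1 ↔ (a : G) ∈ D.D0 := fun a => by
    show e a ∈ π.ker ↔ _
    rw [hker, mem_subgroupOf]
    rfl
  have hcen : ρ.ker ≤ center D.Nc := by
    intro a ha
    have haD := (hk a).mp ha
    rw [mem_center_iff]
    intro b
    apply Subtype.ext
    show (b : G) * a = a * b
    have key : ∀ y ∈ D.Nc, Commute (a : G) y := by
      intro y hy
      induction hy using closure_induction with
      | mem w hw =>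
        obtain ⟨z, hz, hconj⟩ := Group.mem_conjugatesOfSet_iff.mp hw
        rw [Set.mem_singleton_iff] at hz
        subst hz
        obtain ⟨g, rfl⟩ := isConj_iff.mp hconj
        have hwM : g * D.t * g⁻¹ ∈ D.M := D.M_eq.symm ▸ D.conj_t_mem g
        obtain ⟨Q', _, _, π', -, -, -, -, hfus, -⟩ := D.section_facts
        obtain ⟨m, hm, hmw⟩ := hfus ⟨_, hwM⟩ (by
          show g * D.t * g⁻¹ * (g * D.t * g⁻¹) = 1
          rw [conj_mul, D.t_sq, mul_one, mul_inv_cancel])
          (fun h => D.t_ne (conj_eq_one_iff.mp h))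
        show (a : G) * (g * D.t * g⁻¹) = g * D.t * g⁻¹ * a
        rw [← (show m * D.t * m⁻¹ = g * D.t * g⁻¹ from hmw)]
        have h1 : m⁻¹ * (a : G) * m ∈ D.D0 :=
          (mem_normalizer_iff.mp hm.2 _).mpr (by rwa [show m * (m⁻¹ * (a : G) * m) * m⁻¹ = a by group])
        have h2 := D.X_comm_t h1.1
        calc (a : G) * (m * D.t * m⁻¹) = m * (m⁻¹ * (a : G) * m * D.t) * m⁻¹ := by group
          _ = _ := by rw [h2.eq]; group
      | one => exact Commute.one_right _
      | mul x y _ _ hx hy => exact hx.mul_right hy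
      | inv x _ hx => exact hx.inv_right
    exact (key b b.2).eq.symm
  refine ⟨Q, inferInstance, inferInstance, ρ, hρ, hs, hcard, hcen, ?_⟩
  -- the normal closure is perfect
  have hperf : commutator D.Nc = ⊤ := by
    have hnc : ¬IsMulCommutative Q := CfsgLib.J1Unique.not_comm hcard
    have himg : (commutator D.Nc).map ρ = ⊤ := by
      rw [commutator_def, map_commutator, map_top_of_surjective ρ hρ, ← commutator_def]
      rcases IsSimpleGroup.eq_bot_or_eq_top_of_normal (commutator Q) inferInstance with h | h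
      · exact absurd ⟨⟨fun a b => commutatorElement_eq_one_iff_mul_comm.mp
          (mem_bot.mp (h ▸ commutator_mem_commutator (mem_top a) (mem_top b)))⟩⟩ hnc
      · exact h
    have hodd : Odd (commutator D.Nc).index := by
      have hsup : commutator D.Nc ⊔ ρ.ker = ⊤ := by
        rw [← comap_map_eq, himg, comap_top]
      have h1 := relIndex_sup_right (commutator D.Nc) ρ.ker
      rw [← relIndex_top_right, ← hsup, relIndex_sup_left]
      refine D.odd_D0.of_dvd_nat ((relIndex_dvd_card _ _).trans ?_)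
      rw [← card_map_of_injective D.Nc.subtype_injective (K := ρ.ker)]
      refine card_dvd_of_le ?_
      rintro _ ⟨a, ha, rfl⟩
      exact (hk a).mp ha
    rw [eq_top_iff]
    intro a _
    have hgen : D.Nc ≤ (commutator D.Nc).map D.Nc.subtype := by
      refine (closure_le _).mpr fun w hw => ?_
      obtain ⟨z, hz, hconj⟩ := Group.mem_conjugatesOfSet_iff.mp hw
      rw [Set.mem_singleton_iff] at hz
      subst hz
      obtain ⟨g, rfl⟩ := isConj_iff.mp hconj
      set wN : D.Nc := ⟨g * D.t * g⁻¹, D.conj_t_mem g⟩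
      refine ⟨wN, ?_, rfl⟩
      obtain ⟨k, hk'⟩ := hodd
      have hp : wN ^ (commutator D.Nc).index ∈ commutator D.Nc :=
        pow_index_mem _ wN
      have hw2 : wN ^ 2 = 1 := Subtype.ext (by
        show (g * D.t * g⁻¹) ^ 2 = 1
        rw [sq, conj_mul, D.t_sq, mul_one, mul_inv_cancel])
      rwa [hk', pow_succ, pow_mul, hw2, one_pow, one_mul] at hp
    obtain ⟨a', ha', e'⟩ := hgen a.2
    exact Subtype.ext e' ▸ ha'
  rw [hperf]
  exact le_top

end Weak

end CfsgLib.JankoWeak
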