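import Mathlib
import Cfsg.Agent.Lib.JankoWeak.Closure
import Cfsg.Prelude.Def_KGroupFacts
import Cfsg.Prelude.Def_Spor_J1

/-!
# A weak closure `2 × A₅` gives the first Janko group
-/

set_option autoImplicit false
set_option linter.style.haveILetI false

open Subgroup CfsgLib.JankoOne

universe u

namespace CfsgLib.JankoWeak

theorem exists_weak {G : Type u} [Group G] [Finite G] (t : G) (ht : orderOf t = 2) (S : Sylow 2 G)
    (htc : ∀ s ∈ (S : Subgroup G), s * t = t * s)
    (e : ↥(closure {x : G | ∃ g : G, x = g * t * g⁻¹ ∧ x * t = t * x}) ≃* Cmod) :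
    ∃ D : Weak G, D.t = t := by
  haveI : Fact (Nat.Prime 2) := ⟨Nat.prime_two⟩
  set W := closure {x : G | ∃ g : G, x = g * t * g⁻¹ ∧ x * t = t * x} with hW
  have htW : t ∈ W := subset_closure ⟨1, by simp, rfl⟩
  have hWc : ∀ x ∈ W, x * t = t * x := by
    intro x hx
    have hle : W ≤ Subgroup.centralizer ({t} : Set G) :=
      (closure_le _).mpr fun y hy => mem_centralizer_singleton_iff.mpr hy.choose_spec.2
    exact mem_centralizer_singleton_iff.mp (hle hx)
  set ι : Cmod →* G := W.subtype.comp e.symm.toMonoidHom with hι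
  have hinj : Function.Injective ι := fun a b h => e.symm.injective (Subtype.ext h)
  have hrange : ι.range = W := by
    ext x
    exact ⟨fun ⟨k, hk⟩ => hk ▸ (e.symm k).2, fun hx => ⟨e ⟨x, hx⟩, by simp [hι]⟩⟩
  have hcen : ∀ l, e ⟨t, htW⟩ * l = l * e ⟨t, htW⟩ := fun l => by
    apply e.symm.injective
    rw [map_mul, map_mul, MulEquiv.symm_apply_apply]
    exact Subtype.ext (hWc _ (e.symm l).2).symm
  have hιt : ι tM = t := by
    rcases center_eq_tM _ (hcen zM) (hcen yM) with h | h
    · exfalso
      have := congrArg e.symm h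
      rw [MulEquiv.symm_apply_apply, map_one] at this
      have h1 : t = 1 := congrArg Subtype.val this
      rw [h1, orderOf_one] at ht
      omega
    · rw [← h]
      simp [hι]
  set C := Subgroup.centralizer ({t} : Set G)
  set E0 := (Subgroup.centralizer ({vM} : Set Cmod)).map ι
  have hE0C : E0 ≤ C := fun x hx => by
    obtain ⟨k, -, rfl⟩ := hx
    exact mem_centralizer_singleton_iff.mpr (hWc _ (hrange ▸ ⟨k, rfl⟩ : ι k ∈ W))
  have hE0p : IsPGroup 2 E0 := by
    refine IsPGroup.of_card (n := 3) ?_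
    rw [card_map_of_injective hinj, show (2 : ℕ) ^ 3 = 8 by norm_num, ← card_centralizer_vM,
      ← Nat.card_eq_fintype_card]
    exact Nat.card_congr (Equiv.subtypeEquivRight fun k => mem_centralizer_singleton_iff)
  obtain ⟨R, hR⟩ := (hE0p.of_equiv (subgroupOfEquivOfLe hE0C).symm).exists_le_sylow
  have hSC : (S : Subgroup G) ≤ C := fun s hs => mem_centralizer_singleton_iff.mpr (htc s hs)
  have hcard : Nat.card ((R : Subgroup C).map C.subtype) = 2 ^ (Nat.card G).factorization 2 := by
    rw [card_map_of_injective C.subtype_injective, ← S.card_eq_multiplicity,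
      R.card_eq_multiplicity, ← (S.subtype hSC).card_eq_multiplicity, Sylow.coe_subtype]
    exact Nat.card_congr (subgroupOfEquivOfLe hSC).toEquiv
  refine ⟨{ t := t, ι := ι, inj := hinj, ι_t := hιt, P := Sylow.ofCard _ hcard, hP := ?_, le_P := ?_,
            conj_mem := ?_, gen := hrange }, rfl⟩
  · rw [Sylow.coe_ofCard]
    rintro _ ⟨c, -, rfl⟩
    exact mem_centralizer_singleton_iff.mp c.2
  · rw [Sylow.coe_ofCard]
    exact fun x hx => ⟨⟨x, hE0C hx⟩, hR hx, rfl⟩
  · intro g hg
    have : g * t * g⁻¹ ∈ ι.range := hrange.symm ▸ subset_closure ⟨g, rfl, hg.eq⟩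
    exact this

/-- The conclusion, from uniqueness and the multiplier. -/
theorem isoJ1 {G : Type u} [Group G] [Finite G] (D : Weak G)
    (huniq : ∀ (Q : Type u) [Group Q] [Finite Q], IsSimpleGroup Q → Nat.card Q = 175560 →
      Cfsg.Spor.IsoJ1 Q)
    (hmult : ∀ (Γ : Type) [Group Γ] [Finite Γ] (σ : Γ →* Cfsg.Spor.J1), Cfsg.IsStemExtension σ →
      Function.Injective σ) :
    Cfsg.Spor.IsoJ1 (normalClosure ({D.t} : Set G)) := by
  obtain ⟨Q, _, _, π, hsurj, hs, hcard, hcen, hcomm⟩ := D.main
  obtain ⟨e⟩ := huniq Q hs hcard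
  -- move the extension to the lowest universe
  haveI : Finite (Shrink.{0} D.Nc) := Finite.of_equiv _ (equivShrink _)
  let φ : Shrink.{0} D.Nc ≃* D.Nc := Shrink.mulEquiv
  set σ : Shrink.{0} D.Nc →* Cfsg.Spor.J1 := e.toMonoidHom.comp (π.comp φ.toMonoidHom)
  have hker : ∀ a, σ a = 1 → φ a ∈ π.ker := fun a ha => by
    show π (φ a) = 1
    exact e.injective (ha.trans (map_one e).symm)
  have hst : Cfsg.IsStemExtension σ := by
    refine ⟨e.surjective.comp (hsurj.comp φ.surjective), fun a ha => ?_, fun a ha => ?_⟩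
    · rw [mem_center_iff]
      intro b
      apply φ.injective
      rw [map_mul, map_mul]
      exact mem_center_iff.mp (hcen (hker a ha)) (φ b)
    · have h := hcomm (hker a ha)
      have himg : (commutator (Shrink.{0} D.Nc)).map φ.toMonoidHom = commutator D.Nc := by
        rw [commutator_def, map_commutator, map_top_of_surjective _ φ.surjective, ← commutator_def]
      rw [← himg] at h
      obtain ⟨b, hb, hba⟩ := h
      exact φ.injective hba ▸ hb
  have hinj : Function.Injective π := by
    intro a b h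
    have := hmult (Shrink.{0} D.Nc) σ hst (a₁ := φ.symm a) (a₂ := φ.symm b) (by simp [σ, h])
    exact φ.symm.injective this
  exact ⟨(MulEquiv.ofBijective π ⟨hinj, hsurj⟩).trans e⟩

end CfsgLib.JankoWeak
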